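import Cfsg.Agent.Lib.FischerInvol.Model
import Cfsg.Agent.Lib.FischerUnique.Perfect

set_option autoImplicit false

/-! In type M(22) a product of four commuting members is a product of at most three. -/

namespace CfsgLib.FischerInvol

open Subgroup CfsgLib.Classical.Herm HermSpace CfsgLib.UnitaryTransv
open CfsgLib.FischerType
open CfsgLib.FischerInvol.U6
open CfsgLib.FischerType.U6 (ptv proj)
open CfsgLib.ThreeTrans (link mul_self inv_eq commute_conj_iff' conj_self_of_commute)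

variable {G : Type*} [Group G] [Finite G] {D : Set G}

/-- What is used about type M(22). -/
structure Data (D : Set G) : Prop where
  S : Setting D
  lines : HasLines D
  model : ∀ d ∈ D, ∃ (F : Type) (_ : Field F) (_ : Fintype F), Nonempty (Model D d F)
  partner : ∀ a b c : G, a ∈ D → b ∈ link D a → c ∈ link D a → c ∈ link D b →
    ∃ p q r, p ≠ q ∧ p ≠ r ∧ q ≠ r ∧ radical D a b c = {p, q, r} ∧ p * q * r = a * b * c
  conjTriple : ∀ a b c a' b' c' : G, a ∈ D → b ∈ link D a → c ∈ link D a → c ∈ link D b →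
    a' ∈ D → b' ∈ link D a' → c' ∈ link D a' → c' ∈ link D b' →
    ∃ g : G, g * a * g⁻¹ = a' ∧ g * b * g⁻¹ = b' ∧ g * c * g⁻¹ = c'

/-- Type M(22) has this data. -/
theorem data_of_typeM22 (S : Setting D) (h : Cfsg.IsOfTypeM22 G D) {d₀ : G} (hd₀ : d₀ ∈ D)
    (h3 : Cfsg.pCore 3 ↥(closure (link D d₀)) ≤ center ↥(closure (link D d₀)))
    (h2 : Cfsg.pCore 2 ↥(closure (link D d₀)) ≤ center ↥(closure (link D d₀))) : Data D := by
  obtain ⟨a, ha, hpair, SX, F, i1, i2, hF, ⟨e⟩⟩ := S.quotSetting_of_typeM22 h hd₀ h3 h2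
  exact ⟨S, (S.good_of_typeM22 h).lines, fun d hd => exists_model S h hd₀ h3 h2 hd,
    fun x y z hx hy hz hzy => S.exists_partner ha hpair SX hF e hx hy hz hzy,
    fun x y z x' y' z' hx hy hz hzy hx' hy' hz' hzy' =>
      S.exists_conj_triple ha hpair SX hx hy hz hzy hx' hy' hz' hzy'⟩

namespace Data

variable (H : Data D)

include H

/-- The center of the group of a link. -/
theorem eq_one_or_eq {d z : G} (hd : d ∈ D) (hzd : Commute z d)
    (hz : ∀ t ∈ link D d, Commute z t) : z = 1 ∨ z = d := by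
  obtain ⟨F, i1, i2, ⟨M⟩⟩ := H.model d hd
  obtain ⟨u, hu, -⟩ := M.pair
  exact CfsgLib.FischerUnique.eq_one_or_eq_of_fix_link H.S H.lines hd hu hzd hz

/-- The radical of three commuting members commutes with each of them and with their commuting set. -/
theorem radical_mem {a b c x : G} (ha : a ∈ D) (hb : b ∈ link D a) (hc : c ∈ link D a)
    (hcb : c ∈ link D b) (hx : x ∈ radical D a b c) {y : G} (hy : y ∈ D) (hya : Commute y a)
    (hyb : Commute y b) (hyc : Commute y c) : Commute y x := by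
  obtain ⟨p, q, r, hpq, hpr, hqr, hR, hprod⟩ := H.partner a b c ha hb hc hcb
  have hmem : ∀ s : G, s = p ∨ s = q ∨ s = r → s ∈ radical D a b c := fun s hs => by
    rw [hR]; simpa using hs
  have hp := hmem p (Or.inl rfl)
  have hq := hmem q (Or.inr (Or.inl rfl))
  have hr := hmem r (Or.inr (Or.inr rfl))
  have h : Commute y (p * q * r) := hprod ▸ (hya.mul_right hyb).mul_right hyc
  obtain ⟨h1, h2, h3⟩ := commute_of_commute_mul_three H.S.cls.1 hp.1.1.1.1 hq.1.1.1.1 hr.1.1.1.1 hy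
    hpq hpr hqr (hp.2 q hq.1) (hp.2 r hr.1) (hq.2 r hr.1) h
  rw [hR] at hx
  rcases hx with rfl | rfl | rfl
  exacts [h1, h2, h3]

/-- A product of four different commuting members is a product of two or of three. -/
theorem reduce_four {a b c p : G} (ha : a ∈ D) (hb : b ∈ link D a) (hc : c ∈ link D a)
    (hcb : c ∈ link D b) (hp : p ∈ link D a) (hpb : p ∈ link D b) (hpc : p ∈ link D c) :
    (∃ q r, q ∈ D ∧ r ∈ link D q ∧ a * b * c * p = q * r) ∨
      ∃ q r s, q ∈ D ∧ r ∈ link D q ∧ s ∈ link D q ∧ s ∈ link D r ∧ a * b * c * p = q * r * s := by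
  have hset := H.S.cls.1
  by_cases hrad : p ∈ radical D a b c
  · left
    obtain ⟨x, y, z, hxy, hxz, hyz, hR, hprod⟩ := H.partner a b c ha hb hc hcb
    have hmem : ∀ s : G, s = x ∨ s = y ∨ s = z → s ∈ radical D a b c := fun s hs => by
      rw [hR]; simpa using hs
    have hx := hmem x (Or.inl rfl)
    have hy := hmem y (Or.inr (Or.inl rfl))
    have hz := hmem z (Or.inr (Or.inr rfl))
    have cxy := hx.2 y hy.1
    have cxz := hx.2 z hz.1
    have cyz := hy.2 z hz.1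
    have dD : ∀ {s}, s ∈ radical D a b c → s ∈ D := fun hs => hs.1.1.1.1
    rw [hR] at hrad
    rw [← hprod]
    rcases hrad with rfl | rfl | rfl
    · refine ⟨y, z, dD hy, ⟨dD hz, hyz.symm, cyz⟩, ?_⟩
      rw [mul_assoc p y z, (cxy.mul_right cxz).eq, mul_assoc,
        mul_self hset (dD hx), mul_one]
    · refine ⟨x, z, dD hx, ⟨dD hz, hxz.symm, cxz⟩, ?_⟩
      rw [mul_assoc x p z, cyz.eq, ← mul_assoc, mul_assoc, mul_self hset (dD hy), mul_one]
    · refine ⟨x, y, dD hx, ⟨dD hy, hxy.symm, cxy⟩, ?_⟩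
      rw [mul_assoc, mul_self hset (dD hz), mul_one]
  right
  obtain ⟨F, i1, i2, ⟨M⟩⟩ := H.model a ha
  obtain ⟨vb, hvb⟩ := M.exists_vec hb
  obtain ⟨vc, hvc⟩ := M.exists_vec hc
  obtain ⟨vp, hvp⟩ := M.exists_vec hp
  have hind : ∀ α β : F, vp ≠ α • vb + β • vc := fun α β he => hrad
    ((M.mem_radical_iff hvb hvc hcb.2.1.symm hcb.2.2).2
      ⟨hpb.2.1, hpc.2.1, vp, hvp, α, β, he⟩)
  obtain ⟨k, hk, r1, r2, r3⟩ := M.normalise hvb hvc hvp hcb.2.2 hpb.2.2 hpc.2.2 hcb.2.1.symm hind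
  have hka : k * a * k⁻¹ = a := conj_self_of_commute (Model.center_le_centralizer hk)
  set E₁ := k * b * k⁻¹ with hE₁
  set E₂ := k * c * k⁻¹ with hE₂
  set E₃ := k * p * k⁻¹ with hE₃
  suffices hsuf : ∃ q r s, q ∈ D ∧ r ∈ link D q ∧ s ∈ link D q ∧ s ∈ link D r ∧
      a * E₁ * E₂ * E₃ = q * r * s by
    obtain ⟨q, r, s, hq, hr, hs, hsr, he⟩ := hsuf
    have mv : ∀ {x y : G}, y ∈ link D x → k⁻¹ * y * k ∈ link D (k⁻¹ * x * k) := by
      intro x y hy
      simpa using link_conj_mem H.S.cls k⁻¹ hy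
    refine ⟨k⁻¹ * q * k, k⁻¹ * r * k, k⁻¹ * s * k,
      by simpa using CfsgLib.ThreeTransp.class_conj_mem H.S.cls k⁻¹ hq, mv hr, mv hs, mv hsr, ?_⟩
    rw [show k⁻¹ * q * k * (k⁻¹ * r * k) * (k⁻¹ * s * k) = k⁻¹ * (q * r * s) * k by group, ← he]
    conv_rhs => rw [← hka, hE₁, hE₂, hE₃]
    group
  have hF := M.hF
  obtain ⟨w, hw0, hw1, hw, hw3⟩ := exists_omega hF
  -- the three members of an orthonormal basis
  have triple : ∀ κ : F, κ ^ 3 = 1 → ∃ q r s, M.Rep q (P 1 1 κ) ∧ M.Rep r (P 1 w (κ * w ^ 2)) ∧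
      M.Rep s (P 1 (w ^ 2) (κ * w)) ∧
      (q * r * s = E₁ * E₂ * E₃ ∨ q * r * s = a * (E₁ * E₂ * E₃)) := by
    intro κ hκ
    have hne : ∀ y z : F, P (1 : F) y z ≠ 0 := fun y z => P_ne (Or.inl one_ne_zero)
    obtain ⟨q, hq⟩ := M.exists_member (P_orth hF 1 1 κ 1 1 κ) (hne _ _)
    obtain ⟨r, hr⟩ := M.exists_member
      (P_orth hF 1 w (κ * w ^ 2) 1 w (κ * w ^ 2)) (hne _ _)
    obtain ⟨s, hs⟩ := M.exists_member
      (P_orth hF 1 (w ^ 2) (κ * w) 1 (w ^ 2) (κ * w)) (hne _ _)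
    refine ⟨q, r, s, hq, hr, hs, ?_⟩
    obtain ⟨hqm, hqv, -, eq⟩ := hq
    obtain ⟨hrm, hrv, -, er⟩ := hr
    obtain ⟨hsm, hsv, -, es⟩ := hs
    obtain ⟨h1m, h1v, -, e1⟩ := r1
    obtain ⟨h2m, h2v, -, e2⟩ := r2
    obtain ⟨h3m, h3v, -, e3⟩ := r3
    set A : ↥(closure (link D a)) :=
      ⟨q, subset_closure hqm⟩ * ⟨r, subset_closure hrm⟩ * ⟨s, subset_closure hsm⟩ with hA
    set B : ↥(closure (link D a)) :=
      ⟨E₁, subset_closure h1m⟩ * ⟨E₂, subset_closure h2m⟩ * ⟨E₃, subset_closure h3m⟩ with hB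
    have hAB : (QuotientGroup.mk A : Quot D a) = QuotientGroup.mk B := by
      refine M.e.injective ?_
      rw [hA, hB]
      simp only [QuotientGroup.mk_mul, map_mul]
      rw [show M.e (QuotientGroup.mk ⟨q, _⟩) = _ from eq, show M.e (QuotientGroup.mk ⟨r, _⟩) = _ from er,
        show M.e (QuotientGroup.mk ⟨s, _⟩) = _ from es, show M.e (QuotientGroup.mk ⟨E₁, _⟩) = _ from e1,
        show M.e (QuotientGroup.mk ⟨E₂, _⟩) = _ from e2, show M.e (QuotientGroup.mk ⟨E₃, _⟩) = _ from e3]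
      simp only [ptv, ← map_mul]
      refine congrArg _ (Subtype.ext (unit_ext fun x => ?_))
      simp only [Subgroup.coe_mul, LinearEquiv.mul_apply, tv_apply, (stdHerm hF 6).add_left,
        (stdHerm hF 6).smul_left, P_orth, mul_zero, add_zero]
      linear_combination (norm := module) basis_product hF hw hκ x
    have hz := QuotientGroup.eq.1 hAB.symm
    set z := B⁻¹ * A with hzdef
    rcases H.eq_one_or_eq ha (Model.center_le_centralizer z.2)
        (fun t ht => (congrArg Subtype.val (mem_center_iff.1 hz ⟨t, subset_closure ht⟩)).symm)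
      with h | h
    · left
      have : A = B := by
        have hz1 : z = 1 := Subtype.ext h
        rw [hzdef, inv_mul_eq_one] at hz1
        exact hz1.symm
      exact congrArg Subtype.val this
    · right
      have hA' : A = B * z := by rw [hzdef, mul_inv_cancel_left]
      have h' : (A : G) = (B : G) * a :=
        (congrArg Subtype.val hA').trans (congrArg ((B : G) * ·) h)
      rw [(Model.center_le_centralizer B.2).eq] at h'
      exact h'
  -- properties of members with vectors `P 1 y z`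
  have hcomm : ∀ {x y : G} {α β γ α' β' γ' : F}, M.Rep x (P α β γ) → M.Rep y (P α' β' γ') →
      Commute x y := fun hx hy => (M.commute_iff hx hy).2 (P_orth hF _ _ _ _ _ _)
  have hdist : ∀ {x y : G} {β γ β' γ' : F}, M.Rep x (P 1 β γ) → M.Rep y (P 1 β' γ') →
      β ≠ β' → x ≠ y := by
    intro x y β γ β' γ' hx hy hβ
    refine M.ne_of_indep hx hy fun t ht => hβ ?_
    rw [P_smul] at ht
    have h0 := congrFun ht 0
    have h2' := congrFun ht 2
    simp [P] at h0 h2'
    rw [h2', ← h0, one_mul]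
  have hneE : ∀ {x : G} {β γ : F}, M.Rep x (P 1 β γ) → β ≠ 0 → x ≠ E₁ ∧ x ≠ E₂ ∧ x ≠ E₃ := by
    intro x β γ hx hβ
    refine ⟨M.ne_of_indep hx r1 fun t ht => ?_, M.ne_of_indep hx r2 fun t ht => ?_,
      M.ne_of_indep hx r3 fun t ht => ?_⟩
    · rw [P_smul] at ht
      have h0 := congrFun ht 0
      have h2' := congrFun ht 2
      simp [P] at h0 h2'
      rw [← h0] at h2'
      simp [hβ] at h2'
    · rw [P_smul] at ht
      have h0 := congrFun ht 0
      have h2' := congrFun ht 2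
      simp [P] at h0 h2'
      rw [← h0] at h2'
      simp at h2'
    · rw [P_smul] at ht
      have h0 := congrFun ht 0
      have h4 := congrFun ht 4
      simp [P] at h0 h4
      rw [← h0] at h4
      simp at h4
  have hww : w ≠ w ^ 2 := fun h => hw1 (by
    have : w * (w - 1) = 0 := by linear_combination -h
    exact sub_eq_zero.1 ((mul_eq_zero.1 this).resolve_left hw0))
  have hw21 : (1 : F) ≠ w ^ 2 := fun h => hw1 (by linear_combination hw3 + w * h)
  have finish : ∀ κ : F, ∀ q r s : G, M.Rep q (P 1 1 κ) → M.Rep r (P 1 w (κ * w ^ 2)) →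
      M.Rep s (P 1 (w ^ 2) (κ * w)) → q * r * s = a * (E₁ * E₂ * E₃) →
      ∃ q r s, q ∈ D ∧ r ∈ link D q ∧ s ∈ link D q ∧ s ∈ link D r ∧
        a * E₁ * E₂ * E₃ = q * r * s := fun κ q r s hq hr hs he =>
    ⟨q, r, s, hq.mem.1, ⟨hr.mem.1, (hdist hq hr hw1.symm).symm, hcomm hq hr⟩,
      ⟨hs.mem.1, (hdist hq hs hw21).symm, hcomm hq hs⟩,
      ⟨hs.mem.1, (hdist hr hs hww).symm, hcomm hr hs⟩, by rw [he]; simp only [mul_assoc]⟩
  obtain ⟨q, r, s, hq, hr, hs, he⟩ := triple 1 (one_pow 3)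
  rcases he with he | he
  swap; · exact finish 1 q r s hq hr hs he
  obtain ⟨q', r', s', hq', hr', hs', he'⟩ := triple w hw3
  rcases he' with he' | he'
  swap; · exact finish w q' r' s' hq' hr' hs' he'
  exfalso
  have h12 : E₂ ∈ link D E₁ := ⟨r2.mem.1, fun h => hcb.2.1 (mul_left_cancel (mul_right_cancel h)),
    hcomm r1 r2⟩
  have h13 : E₃ ∈ link D E₁ := ⟨r3.mem.1, fun h => hpb.2.1 (mul_left_cancel (mul_right_cancel h)),
    hcomm r1 r3⟩
  have h23 : E₃ ∈ link D E₂ := ⟨r3.mem.1, fun h => hpc.2.1 (mul_left_cancel (mul_right_cancel h)),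
    hcomm r2 r3⟩
  obtain ⟨x, y, z, -, -, -, hR, -⟩ := H.partner E₁ E₂ E₃ r1.mem.1 h12 h13 h23
  have key : ∀ {q r s : G} {κ : F}, M.Rep q (P 1 1 κ) → M.Rep r (P 1 w (κ * w ^ 2)) →
      M.Rep s (P 1 (w ^ 2) (κ * w)) → q * r * s = E₁ * E₂ * E₃ →
      ∀ t, t ∈ [q, r, s] ↔ t ∈ [x, y, z] := by
    intro q r s κ hq hr hs he
    refine (H.S.triple_alternatives r1.mem.1 h12 h13 h23 hR hq.mem.1 hr.mem.1 hs.mem.1
      (hdist hq hr hw1.symm) (hdist hq hs hw21) (hdist hr hs hww) (hcomm hq hr) (hcomm hq hs)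
      (hcomm hr hs) he).resolve_left fun h => ?_
    obtain ⟨n1, n2, n3⟩ := hneE hq one_ne_zero
    have := (h q).1 (by simp)
    simp [n1, n2, n3] at this
  have hmem : q ∈ [q', r', s'] := ((key hq' hr' hs' he') q).2 ((key hq hr hs he q).1 (by simp))
  simp only [List.mem_cons, List.not_mem_nil, or_false] at hmem
  rcases hmem with h | h | h
  · refine M.ne_of_indep hq hq' (fun t ht => ?_) h
    rw [P_smul] at ht
    have h0 := congrFun ht 0
    have h4 := congrFun ht 4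
    simp [P] at h0 h4
    rw [← h0] at h4
    exact hw1 h4
  · exact hdist hq hr' hw1.symm h
  · exact hdist hq hs' hw21 h

end Data

end CfsgLib.FischerInvol
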