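import Cfsg.Agent.Lib.FischerInvol.Weight

set_option autoImplicit false

/-! In type M(22) an involutory symmetry of the class fixes a member. -/

namespace CfsgLib.FischerInvol

open Subgroup CfsgLib.Classical.Herm HermSpace CfsgLib.UnitaryTransv
open CfsgLib.FischerType
open CfsgLib.FischerInvol.U6
open CfsgLib.FischerType.U6 (h_six)
open CfsgLib.ThreeTrans (link mul_self inv_eq braid commute_conj_iff' conj_self_of_commute)

variable {G : Type*} [Group G] [Finite G] {D : Set G}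

/-- An involution on a finite set of odd size has a fixed point. -/
theorem exists_fixed_of_odd {α : Type*} (s : Finset α) (hs : Odd s.card) (g : α → α)
    (hg : ∀ a ∈ s, g a ∈ s) (hinv : ∀ a ∈ s, g (g a) = a) : ∃ a ∈ s, g a = a := by
  by_contra! hno
  have h2 : ∑ _a ∈ s, (1 : ZMod 2) = 0 :=
    Finset.sum_involution (fun a _ => g a) (fun a _ => by decide) (fun a ha _ => hno a ha)
      (fun a ha => hg a ha) (fun a ha => hinv a ha)
  rw [Finset.sum_const, nsmul_one, ZMod.natCast_eq_zero_iff] at h2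
  exact Nat.not_even_iff_odd.2 hs (even_iff_two_dvd.2 h2)

theorem IsBase.conj {B : Set G} (hB : IsBase D B) (hc : Cfsg.IsThreeTranspositionClass D) (g : G) :
    IsBase D ((fun x => g * x * g⁻¹) '' B) := by
  refine ⟨?_, ?_, ?_⟩
  · rintro _ ⟨x, hx, rfl⟩
    exact CfsgLib.ThreeTransp.class_conj_mem hc g (hB.sub hx)
  · rintro _ ⟨x, hx, rfl⟩ _ ⟨y, hy, rfl⟩
    exact (commute_conj_iff' g x y).2 (hB.comm x hx y hy)
  · rw [Set.ncard_image_of_injective _ fun x y h => mul_left_cancel (mul_right_cancel h), hB.card]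

namespace Data

variable (H : Data D)

include H

/-- Three members of a link off a line lie in a base with the member. -/
theorem exists_base_through {d : G} (hd : d ∈ D) {F : Type} [Field F] [Fintype F] (M : Model D d F)
    {b c p : G} {vb vc vp : Fin 6 → F} (hb : M.Rep b vb) (hc : M.Rep c vc) (hp : M.Rep p vp)
    (hbc : Commute b c) (hbp : Commute b p) (hcp : Commute c p) (hne : b ≠ c)
    (hind : ∀ α β : F, vp ≠ α • vb + β • vc) :
    ∃ B, IsBase D B ∧ d ∈ B ∧ b ∈ B ∧ c ∈ B ∧ p ∈ B := by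
  obtain ⟨k, hk, r1, r2, r3⟩ := M.normalise hb hc hp hbc hbp hcp hne hind
  have hkd : Commute k⁻¹ d := (Model.center_le_centralizer hk).inv_left
  have hmem : ∀ x, k * x * k⁻¹ ∈ M.base → x ∈ (fun y => k⁻¹ * y * k⁻¹⁻¹) '' M.base :=
    fun x hx => ⟨_, hx, by group⟩
  refine ⟨_, IsBase.conj (B := M.base) ⟨fun x hx => M.base_subset hx,
      fun x hx y hy => M.base_commute hx hy, M.ncard_base⟩ H.S.cls k⁻¹,
    ⟨d, Or.inl rfl, conj_self_of_commute hkd⟩, hmem b (Or.inr ⟨1, 0, 0, r1⟩),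
    hmem c (Or.inr ⟨0, 1, 0, r2⟩), hmem p (Or.inr ⟨0, 0, 1, r3⟩)⟩

/-- A base through a commuting triple is one of three. -/
theorem card_bases_triple {a b c : G} (ha : a ∈ D) (hb : b ∈ link D a) (hc : c ∈ link D a)
    (hcb : c ∈ link D b) : {B | IsBase D B ∧ a ∈ B ∧ b ∈ B ∧ c ∈ B}.ncard = 3 := by
  classical
  obtain ⟨F, i1, i2, ⟨M⟩⟩ := H.model a ha
  have hF := M.hF
  obtain ⟨E₁, r1⟩ := M.exists_member (P_orth hF 1 0 0 1 0 0) (P_ne (Or.inl one_ne_zero))
  obtain ⟨E₂, r2⟩ := M.exists_member (P_orth hF 0 1 0 0 1 0) (P_ne (Or.inr (Or.inl one_ne_zero)))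
  have h12 : E₂ ≠ E₁ := fun h => M.ne_of_indep r1 r2 (fun t ht => by
    rw [P_smul] at ht
    simpa [P] using congrFun ht 2) h.symm
  have c12 : Commute E₁ E₂ := (M.commute_iff r1 r2).2 (P_orth hF _ _ _ _ _ _)
  obtain ⟨g, ga, gb, gc⟩ := H.conjTriple a b c a E₁ E₂ ha hb hc hcb ha r1.mem r2.mem
    ⟨r2.mem.1, h12, c12⟩
  have hinj : Function.Injective (Set.image fun x => g * x * g⁻¹) :=
    Set.image_injective.2 fun x y h => mul_left_cancel (mul_right_cancel h)
  have himg : Set.image (fun x => g * x * g⁻¹) '' {B | IsBase D B ∧ a ∈ B ∧ b ∈ B ∧ c ∈ B} =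
      {B | IsBase D B ∧ a ∈ B ∧ E₁ ∈ B ∧ E₂ ∈ B} := by
    ext B
    constructor
    · rintro ⟨B, ⟨hB, h1, h2, h3⟩, rfl⟩
      exact ⟨hB.conj H.S.cls g, ⟨a, h1, ga⟩, ⟨b, h2, gb⟩, ⟨c, h3, gc⟩⟩
    · rintro ⟨hB, h1, h2, h3⟩
      refine ⟨(fun x => g⁻¹ * x * g⁻¹⁻¹) '' B, ⟨hB.conj H.S.cls g⁻¹, ⟨a, h1, ?_⟩, ⟨E₁, h2, ?_⟩,
        ⟨E₂, h3, ?_⟩⟩, ?_⟩
      · conv_lhs => rw [← ga]
        group
      · rw [← gb]; group
      · rw [← gc]; group
      · rw [Set.image_image]
        exact (Set.image_congr fun x _ => by group).trans (Set.image_id' B)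
  rw [← Set.ncard_image_of_injective _ hinj, himg]
  -- vectors off the line, by their ratio
  have hratio : ∀ {v : Fin 6 → F}, OffLine v → (stdHerm hF 6).h v v = 0 →
      ∃ t : Fˣ, v 5 = (t : F) * v 4 := by
    intro v ⟨o1, o2, o4⟩ hv
    have h5 : v 5 ≠ 0 := by
      intro h5
      rw [h_six, eq_add_self hF o1, eq_add_self hF o2, h5] at hv
      exact one_ne_zero (α := F) (by
        linear_combination hv - (v 0 ^ 3 + v 2 ^ 3) * two_eq_zero hF - sq_ne_zero_mul hF o4)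
    exact ⟨Units.mk0 (v 5 * v 4 ^ 2) (mul_ne_zero h5 (pow_ne_zero _ o4)),
      by rw [Units.val_mk0]; linear_combination -(v 5) * sq_ne_zero_mul hF o4⟩
  have hsame : ∀ {v v' : Fin 6 → F} {t t' : Fˣ}, OffLine v → OffLine v' → v 5 = (t : F) * v 4 →
      v' 5 = (t' : F) * v' 4 → (stdHerm hF 6).h v v' = 0 → t = t' := by
    intro v v' t t' ⟨o1, o2, o4⟩ ⟨p1, p2, p4⟩ e e' h
    rw [h_six, eq_add_self hF o1, eq_add_self hF o2, eq_add_self hF p1, eq_add_self hF p2, e, e'] at h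
    have h' : v 4 * v' 4 ^ 2 * (1 + (t : F) * (t' : F) ^ 2) = 0 := by
      linear_combination h - (v 0 * v' 0 ^ 2 + v 2 * v' 2 ^ 2) * two_eq_zero hF
    have := (mul_eq_zero.1 h').resolve_left (mul_ne_zero o4 (pow_ne_zero _ p4))
    refine Units.ext ?_
    linear_combination (t' : F) * this - (t : F) * sq_ne_zero_mul hF t'.ne_zero -
      (t' : F) * two_eq_zero hF
  have hline : ∀ {w : G}, w ∈ link D a → Commute w E₁ → Commute w E₂ → ∀ {v : Fin 6 → F},
      M.Rep w v → OffLine v ∨ ∃ x y : F, v = P x y 0 := by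
    intro w _ h1 h2 v hv
    by_cases ho : OffLine v
    · exact Or.inl ho
    refine Or.inr ?_
    rw [offLine_iff hF hv.isotropic] at ho
    push Not at ho
    exact ho ((M.commute_iff hv r1).1 h1) ((M.commute_iff hv r2).1 h2)
  have hlineComm : ∀ {v : Fin 6 → F} {x y : F}, (OffLine v ∨ ∃ x' y' : F, v = P x' y' 0) →
      (stdHerm hF 6).h v (P x y 0) = 0 := by
    rintro v x y (⟨o1, o2, -⟩ | ⟨x', y', rfl⟩)
    · rw [h_P]; simp [o1, o2]
    · exact P_orth hF _ _ _ _ _ _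
  have hex : ∀ B, IsBase D B → a ∈ B → E₁ ∈ B → E₂ ∈ B →
      ∃ w ∈ B, ∃ v, M.Rep w v ∧ OffLine v := by
    intro B hB h1 h2 h3
    by_contra! hno
    obtain ⟨x, y, z, -, -, -, hR, -⟩ := H.partner a E₁ E₂ ha r1.mem r2.mem ⟨r2.mem.1, h12, c12⟩
    have hsub : B ⊆ {a, E₁, E₂, x, y, z} := by
      intro w hw
      simp only [Set.mem_insert_iff, Set.mem_singleton_iff]
      by_cases hwa : w = a
      · exact Or.inl hwa
      by_cases hw1 : w = E₁
      · exact Or.inr (Or.inl hw1)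
      by_cases hw2 : w = E₂
      · exact Or.inr (Or.inr (Or.inl hw2))
      have hwl := hB.link_mem h1 hw hwa
      obtain ⟨v, hv⟩ := M.exists_vec hwl
      obtain ⟨p, q, rfl⟩ := (hline hwl (hB.comm w hw _ h2) (hB.comm w hw _ h3) hv).resolve_left
        (hno w hw v hv)
      have := (M.mem_radical_iff r1 r2 h12.symm c12).2 ⟨hw1, hw2, _, hv, p, q, by
        rw [P_smul, P_smul, P_add]; simp⟩
      rw [hR] at this
      simp only [Set.mem_insert_iff, Set.mem_singleton_iff] at this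
      tauto
    have h := Set.ncard_le_ncard hsub (Set.toFinite _)
    have i1 := Set.ncard_insert_le a ({E₁, E₂, x, y, z} : Set G)
    have i2 := Set.ncard_insert_le E₁ ({E₂, x, y, z} : Set G)
    have i3 := Set.ncard_insert_le E₂ ({x, y, z} : Set G)
    have i4 := Set.ncard_insert_le x ({y, z} : Set G)
    have i5 := Set.ncard_insert_le y ({z} : Set G)
    rw [Set.ncard_singleton] at i5
    rw [hB.card] at h
    omega
  -- the base of a ratio
  have hbase : ∀ t : Fˣ, ∃ B, IsBase D B ∧ a ∈ B ∧ E₁ ∈ B ∧ E₂ ∈ B ∧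
      ∃ w ∈ B, ∃ v, M.Rep w v ∧ OffLine v ∧ v 5 = (t : F) * v 4 := by
    intro t
    set v : Fin 6 → F := ![0, 0, 0, 0, 1, (t : F)] with hvdef
    have hv : (stdHerm hF 6).h v v = 0 := by
      rw [h_six]; simp [hvdef]
      linear_combination CfsgLib.UnitaryTransv.pow_three hF t.ne_zero + two_eq_zero hF
    have ho : OffLine v := ⟨by simp [hvdef], by simp [hvdef], by simp [hvdef]⟩
    obtain ⟨w, hw⟩ := M.exists_member hv (fun h => ho.2.2 (by rw [h]; rfl))
    obtain ⟨B, hB, h1, h2, h3, h4⟩ := H.exists_base_through ha M r1 r2 hw c12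
      ((M.commute_iff hw r1).2 (hlineComm (Or.inl ho))).symm
      ((M.commute_iff hw r2).2 (hlineComm (Or.inl ho))).symm h12.symm (fun α β he => by
        have := congrFun he 4
        simp [hvdef, P] at this)
    exact ⟨B, hB, h1, h2, h3, w, h4, v, hw, ho, by simp [hvdef]⟩
  have huniq : ∀ {B B' : Set G} {w w' : G} {v v' : Fin 6 → F} {t : Fˣ}, IsBase D B → a ∈ B →
      E₁ ∈ B → E₂ ∈ B → IsBase D B' → a ∈ B' → E₁ ∈ B' → E₂ ∈ B' →
      w ∈ B → M.Rep w v → OffLine v → v 5 = (t : F) * v 4 →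
      w' ∈ B' → M.Rep w' v' → OffLine v' → v' 5 = (t : F) * v' 4 → B ⊆ B' := by
    intro B B' w w' v v' t hB h1 h2 h3 hB' g1 g2 g3 hw hv ho ht hw' hv' ho' ht' x hx
    refine H.mem_of_commute_all hB' (hB.sub hx) fun y hy => ?_
    by_cases hxa : x = a
    · subst hxa; exact hB'.comm x g1 y hy
    by_cases hya : y = a
    · subst hya; exact hB.comm x hx y h1
    have hxl := hB.link_mem h1 hx hxa
    have hyl := hB'.link_mem g1 hy hya
    obtain ⟨vx, hvx⟩ := M.exists_vec hxl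
    obtain ⟨vy, hvy⟩ := M.exists_vec hyl
    refine (M.commute_iff hvx hvy).2 ?_
    rcases hline hxl (hB.comm x hx _ h2) (hB.comm x hx _ h3) hvx with ox | ⟨p, q, rfl⟩
    · rcases hline hyl (hB'.comm y hy _ g2) (hB'.comm y hy _ g3) hvy with oy | ⟨p, q, rfl⟩
      · obtain ⟨tx, htx⟩ := hratio ox hvx.isotropic
        obtain ⟨ty, hty⟩ := hratio oy hvy.isotropic
        have e1 := hsame ox ho htx ht ((M.commute_iff hvx hv).1 (hB.comm x hx w hw))
        have e2 := hsame oy ho' hty ht' ((M.commute_iff hvy hv').1 (hB'.comm y hy w' hw'))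
        subst e1 e2
        obtain ⟨o1, o2, o4⟩ := ox
        obtain ⟨p1, p2, p4⟩ := oy
        rw [h_six, eq_add_self hF o1, eq_add_self hF o2, eq_add_self hF p1, eq_add_self hF p2, htx,
          hty]
        linear_combination (vx 0 * vy 0 ^ 2 + vx 2 * vy 2 ^ 2) * two_eq_zero hF +
          vx 4 * vy 4 ^ 2 * (sq_ne_zero_mul hF ty.ne_zero + two_eq_zero hF)
      · exact hlineComm (Or.inl ox)
    · exact (stdHerm hF 6).h_comm_zero
        (hlineComm (hline hyl (hB'.comm y hy _ g2) (hB'.comm y hy _ g3) hvy))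
  choose Bt hBt hBa hB1 hB2 wt hwt vt hvt hot htt using hbase
  have hrange : {B | IsBase D B ∧ a ∈ B ∧ E₁ ∈ B ∧ E₂ ∈ B} = Set.range Bt := by
    ext B
    constructor
    · rintro ⟨hB, h1, h2, h3⟩
      obtain ⟨w, hw, v, hv, ho⟩ := hex B hB h1 h2 h3
      obtain ⟨t, ht⟩ := hratio ho hv.isotropic
      exact ⟨t, Set.Subset.antisymm
        (huniq (hBt t) (hBa t) (hB1 t) (hB2 t) hB h1 h2 h3 (hwt t) (hvt t) (hot t) (htt t) hw hv ho ht)
        (huniq hB h1 h2 h3 (hBt t) (hBa t) (hB1 t) (hB2 t) hw hv ho ht (hwt t) (hvt t) (hot t) (htt t))⟩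
    · rintro ⟨t, rfl⟩
      exact ⟨hBt t, hBa t, hB1 t, hB2 t⟩
  have hBinj : Function.Injective Bt := fun t t' h =>
    hsame (hot t) (hot t') (htt t) (htt t')
      ((M.commute_iff (hvt t) (hvt t')).1 ((hBt t').comm _ (h ▸ hwt t) _ (hwt t')))
  rw [hrange, Set.ncard_range_of_injective hBinj, Nat.card_eq_fintype_card, Fintype.card_units, hF]
  norm_num

theorem ncard_link_pair {a b : G} (ha : a ∈ D) (hb : b ∈ link D a) :
    {w | w ∈ link D a ∧ w ≠ b ∧ Commute b w}.ncard = 180 := by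
  classical
  obtain ⟨F, i1, i2, ⟨M⟩⟩ := H.model a ha
  have hF := M.hF
  obtain ⟨E₁, r1⟩ := M.exists_member (P_orth hF 1 0 0 1 0 0) (P_ne (Or.inl one_ne_zero))
  obtain ⟨g, ga, gb⟩ := H.S.exists_conj_pair ha hb ha r1.mem
  have hinj : Function.Injective fun x => g * x * g⁻¹ :=
    fun x y h => mul_left_cancel (mul_right_cancel h)
  have himg : (fun x => g * x * g⁻¹) '' {w | w ∈ link D a ∧ w ≠ b ∧ Commute b w} =
      {w | ∃ v, (v ≠ 0 ∧ (stdHerm hF 6).h v v = 0 ∧ (stdHerm hF 6).h v (P 1 0 0) = 0 ∧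
        ∀ t : F, v ≠ t • P 1 0 0) ∧ M.Rep w v} := by
    ext y
    constructor
    · rintro ⟨w, ⟨hw, hwb, hcw⟩, rfl⟩
      have hl : g * w * g⁻¹ ∈ link D a := ga ▸ link_conj_mem H.S.cls g hw
      obtain ⟨v, hv⟩ := M.exists_vec hl
      refine ⟨v, ⟨hv.ne_zero, hv.isotropic,
        (M.commute_iff hv r1).1 (gb ▸ (commute_conj_iff' g w b).2 hcw.symm), fun t ht => hwb ?_⟩, hv⟩
      exact hinj ((M.eq_of_smul r1 hv ht).symm.trans gb.symm)
    · rintro ⟨v, ⟨-, -, ho, hne⟩, hv⟩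
      refine ⟨g⁻¹ * y * g, ⟨?_, fun h => ?_, ?_⟩, by group⟩
      · have := link_conj_mem H.S.cls g⁻¹ hv.mem
        rw [show g⁻¹ * a * g⁻¹⁻¹ = a by conv_lhs => rw [← ga]
                                        group] at this
        simpa using this
      · refine M.ne_of_indep r1 hv hne ?_
        rw [← gb, ← h]
        group
      · have h1 := ((commute_conj_iff' g⁻¹ y E₁).2 ((M.commute_iff hv r1).2 ho)).symm
        rw [← gb] at h1
        simpa [mul_assoc] using h1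
  rw [← Set.ncard_image_of_injective _ hinj, himg]
  have h := M.ncard_mul_three (Q := fun v => v ≠ 0 ∧ (stdHerm hF 6).h v v = 0 ∧
      (stdHerm hF 6).h v (P 1 0 0) = 0 ∧ ∀ t : F, v ≠ t • P 1 0 0) (by
    rintro v ⟨h0, h1, h2, h3⟩
    refine ⟨h0, h1, fun t ht => ⟨smul_ne_zero ht h0, ?_, ?_, fun s hs => h3 (t⁻¹ * s) ?_⟩⟩
    · rw [(stdHerm hF 6).smul_left, (stdHerm hF 6).smul_right, h1, mul_zero, mul_zero]
    · rw [(stdHerm hF 6).smul_left, h2, mul_zero]
    · rw [mul_smul, ← hs, smul_smul, inv_mul_cancel₀ ht, one_smul])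
  have h2 : Nat.card ↑{v : Fin 6 → F | (stdHerm hF 6).h v v = 0 ∧
      (stdHerm hF 6).h v (P 1 0 0) = 0} = 544 := card_perp_point hF
  have hsplit : {v : Fin 6 → F | (stdHerm hF 6).h v v = 0 ∧ (stdHerm hF 6).h v (P 1 0 0) = 0} =
      {v | v ≠ 0 ∧ (stdHerm hF 6).h v v = 0 ∧ (stdHerm hF 6).h v (P 1 0 0) = 0 ∧
        ∀ t : F, v ≠ t • P 1 0 0} ∪ Set.range (fun t : F => t • P (1 : F) 0 0) := by
    ext v
    constructor
    · rintro ⟨h1, h2⟩
      by_cases hl : ∃ t : F, v = t • P 1 0 0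
      · obtain ⟨t, ht⟩ := hl
        exact Or.inr ⟨t, ht.symm⟩
      · push Not at hl
        exact Or.inl ⟨fun h0 => hl 0 (by rw [h0, zero_smul]), h1, h2, hl⟩
    · rintro (⟨-, h1, h2, -⟩ | ⟨t, rfl⟩)
      · exact ⟨h1, h2⟩
      · refine ⟨?_, ?_⟩ <;> simp only [P_smul, P_orth]
  have h3 := congrArg Set.ncard hsplit
  have hdisj : Disjoint
      {v : Fin 6 → F | v ≠ 0 ∧ (stdHerm hF 6).h v v = 0 ∧ (stdHerm hF 6).h v (P 1 0 0) = 0 ∧
        ∀ t : F, v ≠ t • P 1 0 0}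
      (Set.range fun t : F => t • P (1 : F) 0 0) := by
    refine Set.disjoint_left.2 ?_
    rintro v hv ⟨t, ht⟩
    exact hv.2.2.2 t ht.symm
  rw [Set.ncard_union_eq hdisj
      (Set.toFinite _) (Set.toFinite _),
    Set.ncard_range_of_injective (smul_left_injective F (P_ne (Or.inl one_ne_zero))),
    Nat.card_eq_fintype_card (α := F), hF, ← Nat.card_coe_set_eq, ← Nat.card_coe_set_eq, h2] at h3
  have e2 : Nat.card {v : Fin 6 → F // v ≠ 0 ∧ (stdHerm hF 6).h v v = 0 ∧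
      (stdHerm hF 6).h v (P 1 0 0) = 0 ∧ ∀ t : F, v ≠ t • P 1 0 0} = 540 := by
    change Nat.card ↑{v : Fin 6 → F | _}= 540
    norm_num [-Nat.card_eq_fintype_card] at h3 ⊢
    omega
  omega

/-- An odd number of bases contain a commuting pair. -/
theorem card_bases_pair {a b : G} (ha : a ∈ D) (hb : b ∈ link D a) :
    {B | IsBase D B ∧ a ∈ B ∧ b ∈ B}.ncard = 27 := by
  classical
  haveI := Fintype.ofFinite G
  set T := {w | w ∈ link D a ∧ w ≠ b ∧ Commute b w} with hT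
  set 𝔅 := {B | IsBase D B ∧ a ∈ B ∧ b ∈ B}.toFinset with h𝔅
  have hrow : ∀ B ∈ 𝔅, (T.toFinset.filter fun w => w ∈ B).card = 20 := by
    intro B hB
    obtain ⟨hB, h1, h2⟩ := Set.mem_toFinset.1 hB
    have e : ((T.toFinset.filter fun w => w ∈ B : Finset G) : Set G) = B \ {a, b} := by
      ext w
      simp only [hT, Finset.coe_filter, Set.mem_toFinset, Set.mem_sdiff, Set.mem_insert_iff,
        Set.mem_singleton_iff, not_or]
      exact ⟨fun h => ⟨h.2, h.1.1.2.1, h.1.2.1⟩, fun h => ⟨⟨hB.link_mem h1 h.1 h.2.1, h.2.2,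
        hB.comm b h2 w h.1⟩, h.1⟩⟩
    rw [← Set.ncard_coe_finset, e, Set.ncard_sdiff (Set.insert_subset h1 (Set.singleton_subset_iff.2 h2)),
      hB.card, Set.ncard_pair hb.2.1.symm]
  have hcol : ∀ w ∈ T.toFinset, (𝔅.filter fun B => w ∈ B).card = 3 := by
    intro w hw
    obtain ⟨hwl, hwb, hcw⟩ := Set.mem_toFinset.1 hw
    rw [← H.card_bases_triple ha hb hwl ⟨hwl.1, hwb, hcw⟩, ← Set.ncard_coe_finset]
    congr 1
    ext B
    simp [h𝔅, and_assoc]
  have h : ∑ B ∈ 𝔅, (T.toFinset.filter fun w => w ∈ B).card =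
      ∑ w ∈ T.toFinset, (𝔅.filter fun B => w ∈ B).card := by
    simp only [Finset.card_filter]
    exact Finset.sum_comm
  have hTc : T.toFinset.card = 180 := by
    rw [← Set.ncard_eq_toFinset_card']
    exact H.ncard_link_pair ha hb
  rw [Finset.sum_congr rfl hrow, Finset.sum_congr rfl hcol, Finset.sum_const, Finset.sum_const,
    smul_eq_mul, smul_eq_mul, hTc, h𝔅, ← Set.ncard_eq_toFinset_card'] at h
  omega

/-- An involutory symmetry fixes a member. -/
theorem exists_fixed (hn : D.ncard = 3510) {f : G → G} (hf : Sym D f) : ∃ d ∈ D, f d = d := by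
  classical
  haveI := Fintype.ofFinite G
  by_contra! hno
  have hset := H.S.cls.1
  have hA : ∀ x ∈ D, Commute x (f x) := by
    intro x hx
    by_contra hnc
    exact hno _ (conj_mem H.S.cls hx (hf.mem x hx)) (hf.fix_third H.S.cls hx hnc)
  obtain ⟨d, hd⟩ := Set.nonempty_of_ncard_ne_zero (by rw [hn]; norm_num : D.ncard ≠ 0)
  have he : f d ∈ link D d := ⟨hf.mem d hd, hno d hd, hA d hd⟩
  set 𝔅 := {B | IsBase D B ∧ d ∈ B ∧ f d ∈ B}.toFinset with h𝔅
  have hinvB : ∀ B, IsBase D B → f '' (f '' B) = B := by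
    intro B hB
    rw [Set.image_image]
    exact (Set.image_congr fun x hx => hf.invol x (hB.sub hx)).trans (Set.image_id' B)
  obtain ⟨B, hB𝔅, hfB⟩ := exists_fixed_of_odd 𝔅 (by
      rw [h𝔅, ← Set.ncard_eq_toFinset_card', H.card_bases_pair hd he]; exact ⟨13, rfl⟩)
    (fun B => f '' B) (fun B hB => by
      obtain ⟨hB, h1, h2⟩ := Set.mem_toFinset.1 hB
      refine Set.mem_toFinset.2 ⟨⟨?_, ?_, ?_⟩, ⟨f d, h2, hf.invol d hd⟩, ⟨d, h1, rfl⟩⟩
      · rintro _ ⟨x, hx, rfl⟩; exact hf.mem x (hB.sub hx)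
      · rintro _ ⟨x, hx, rfl⟩ _ ⟨y, hy, rfl⟩
        exact hf.commute H.S.cls (hB.sub hx) (hB.sub hy) (hB.comm x hx y hy)
      · rw [Set.InjOn.ncard_image (fun x hx y hy h => hf.inj (hB.sub hx) (hB.sub hy) h), hB.card])
    (fun B hB => hinvB B (Set.mem_toFinset.1 hB).1)
  obtain ⟨hB, -, -⟩ := Set.mem_toFinset.1 hB𝔅
  have hfB' : f '' B = B := hfB
  have hmemB : ∀ b ∈ B, f b ∈ B := fun b hb => hfB'.subset ⟨b, hb, rfl⟩
  obtain ⟨x, hx⟩ := Set.nonempty_of_ncard_ne_zero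
    (by rw [H.ncard_outside hB hn]; norm_num : (outside D B).ncard ≠ 0)
  have hxD := hx.1
  have hy : f x ∈ outside D B := ⟨hf.mem x hxD, fun b hb hc => hx.2 (f b) (hmemB b hb) (by
    have := hf.commute H.S.cls (hf.mem x hxD) (hB.sub hb) hc
    rwa [hf.invol x hxD] at this)⟩
  obtain ⟨n, hn', hyn⟩ := H.exists_translate hB hn hx hy
  rcases (H.short_commute_iff hB hx hn').2 (hyn ▸ hA x hxD) with rfl | ⟨u, hu, w, hw, huw, rfl⟩
  · exact hno x hxD (by rw [hyn]; group)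
  have huD := hB.sub hu
  have hwD := hB.sub hw
  have fu := hmemB u hu
  have fw := hmemB w hw
  have cuw := hB.comm u hu w hw
  have hw2 := mul_self hset hwD
  have hconj : ∀ {p q : G}, p ∈ D → q ∈ D → ∀ z, p * q * z * (p * q)⁻¹ = p * (q * z * q) * p :=
    fun hp hq z => by
      rw [mul_inv_rev, inv_eq hset hp, inv_eq hset hq]; simp only [mul_assoc]
  have e1 : f x = u * (w * x * w) * u := hyn.trans (hconj huD hwD x)
  have e2 : x = f u * (f w * f x * f w) * f u := by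
    rw [← hf.conj w hwD x hxD, ← hf.conj u huD _ (conj_mem H.S.cls hwD hxD), ← e1, hf.invol x hxD]
  have e3 : f u * f w * x * (f u * f w)⁻¹ = f x := by
    have hm : f u * f w * (f u * f w) = 1 := by
      rw [(hB.comm _ fw _ fu).mul_mul_mul_comm, mul_self hset (hB.sub fu), mul_self hset (hB.sub fw),
        one_mul]
    conv_lhs => rw [e2, ← hconj (hB.sub fu) (hB.sub fw)]
    calc f u * f w * (f u * f w * f x * (f u * f w)⁻¹) * (f u * f w)⁻¹
        = (f u * f w * (f u * f w)) * f x * (f u * f w * (f u * f w))⁻¹ := by group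
      _ = f x := by rw [hm]; group
  have hm : (u * w)⁻¹ * (f u * f w) ∈ closure B :=
    mul_mem (inv_mem (mul_mem (subset_closure hu) (subset_closure hw)))
      (mul_mem (subset_closure fu) (subset_closure fw))
  have huwf := inv_mul_eq_one.1 ((H.short_commute_iff hB hx hm).1 (by
    calc (u * w)⁻¹ * (f u * f w) * x * ((u * w)⁻¹ * (f u * f w))⁻¹
        = (u * w)⁻¹ * (f u * f w * x * (f u * f w)⁻¹) * (u * w) := by group
      _ = (u * w)⁻¹ * (u * w * x * (u * w)⁻¹) * (u * w) := by rw [e3, hyn]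
      _ = x := by group))
  rcases H.S.pair_unique huD hwD (hB.sub fu) (hB.sub fw) huw
    (fun h => huw (hf.inj huD hwD h)) cuw (hB.comm _ fu _ fw) huwf with ⟨h, -⟩ | ⟨h, h'⟩
  · exact hno u huD h.symm
  refine hno _ (conj_mem H.S.cls huD hxD) ?_
  rw [hf.conj u huD x hxD, ← h', e1]
  calc w * (u * (w * x * w) * u) * w = (w * u * w) * x * (w * u * w) := by simp only [mul_assoc]
    _ = u * x * u := by rw [cuw.symm.eq, mul_assoc u w w, hw2, mul_one]

end Data

end CfsgLib.FischerInvol
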