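import Cfsg.Agent.Lib.FischerInvol.Levels
import Cfsg.Agent.Lib.FischerOrder.Counts

set_option autoImplicit false

/-! In types M(22), M(23), M(24) an involutory symmetry of the class fixes a member. -/

namespace CfsgLib.FischerInvol

open Subgroup CfsgLib.FischerType
open CfsgLib.ThreeTrans (link mul_self inv_eq commute_conj_iff' conj_self_of_commute)

variable {G : Type*} [Group G] {D : Set G}

/-- A symmetry keeping a subset, carried along a bijection. -/
theorem exists_fixed_transfer {A : Type*} [Group A] {E : Set A} {T : Set G} (hTD : T ⊆ D)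
    (φ : G → A) (hbij : Set.BijOn φ T E)
    (hcl : ∀ a ∈ T, ∀ b ∈ T, a * b * a ∈ T ∧ φ (a * b * a) = φ a * φ b * φ a) {f : G → G}
    (hf : CfsgLib.FischerType.Sym D f) (hfT : ∀ a ∈ T, f a ∈ T)
    (hE : ∀ g, CfsgLib.FischerType.Sym E g → ∃ y ∈ E, g y = y) : ∃ a ∈ T, f a = a := by
  have hψ : ∀ a ∈ T, Function.invFunOn φ T (φ a) = a := fun a ha =>
    hbij.injOn.leftInvOn_invFunOn ha
  have hg : CfsgLib.FischerType.Sym E (fun y => φ (f (Function.invFunOn φ T y))) := by
    refine ⟨fun y hy => ?_, fun y hy => ?_, fun y hy z hz => ?_⟩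
    · obtain ⟨a, ha, rfl⟩ := hbij.surjOn hy
      rw [hψ a ha]
      exact hbij.mapsTo (hfT a ha)
    · obtain ⟨a, ha, rfl⟩ := hbij.surjOn hy
      show φ (f (Function.invFunOn φ T (φ (f (Function.invFunOn φ T (φ a)))))) = φ a
      rw [hψ a ha, hψ _ (hfT a ha), hf.invol a (hTD ha)]
    · obtain ⟨a, ha, rfl⟩ := hbij.surjOn hy
      obtain ⟨b, hb, rfl⟩ := hbij.surjOn hz
      obtain ⟨hab, he⟩ := hcl a ha b hb
      show φ (f (Function.invFunOn φ T (φ a * φ b * φ a))) = _
      rw [← he, hψ _ hab, hψ a ha, hψ b hb, hf.conj a (hTD ha) b (hTD hb),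
        (hcl _ (hfT a ha) _ (hfT b hb)).2]
  obtain ⟨y, hy, hgy⟩ := hE _ hg
  obtain ⟨a, ha, rfl⟩ := hbij.surjOn hy
  simp only [hψ a ha] at hgy
  exact ⟨a, ha, hbij.injOn (hfT a ha) ha hgy⟩

variable [Finite G]

/-- Type M(22) has the data used here. -/
theorem data_of_setting (S : Setting D) (h : Cfsg.IsOfTypeM22 G D) : Data D := by
  obtain ⟨d₀, hd₀, ⟨u, hu, v, hv, huv⟩, -, F, i1, i2, hF, ⟨e⟩⟩ :=
    CfsgLib.FischerUnique.exists_data_of_typeM22 S h
  have hs : IsSimpleGroup (Quot D d₀) := CfsgLib.FischerType.isSimpleGroup_of_psu hF e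
  have hnc : ¬ Commute (toImg D d₀ hu) (toImg D d₀ hv) := fun h =>
    huv (commute_of_toImg S.cls.1 hu hv h)
  have : Fact (Nat.Prime 2) := ⟨Nat.prime_two⟩
  have : Fact (Nat.Prime 3) := ⟨Nat.prime_three⟩
  exact data_of_typeM22 S h hd₀ (pCore_link_le_of_quot (pCore_eq_bot_of_simple 3 hs hnc))
    (pCore_link_le_of_quot (pCore_eq_bot_of_simple 2 hs hnc))

variable (S : Setting D)

include S

/-- In type M(22) a symmetry fixes a member. -/
theorem exists_fixed_of_typeM22 (h : Cfsg.IsOfTypeM22 G D) {f : G → G}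
    (hf : CfsgLib.FischerType.Sym D f) : ∃ d ∈ D, f d = d :=
  (data_of_setting S h).exists_fixed (CfsgLib.FischerOrder.ncard_class S h) hf

section pair

variable {d e : G} (hd : d ∈ D) (hpair : ∃ u ∈ link D d, ∃ v ∈ link D d, ¬ Commute u v)
  (he : e ∈ link D d)

include hd hpair

/-- The link as its image. -/
theorem bijOn_tot_img : Set.BijOn (tot D d) (link D d) (img D d) := by
  refine ⟨fun w hw => ?_, fun u hu v hv h => tot_inj S hd hpair hu hv h, fun q hq => ?_⟩
  · rw [tot_eq hw]; exact toImg_mem hw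
  · obtain ⟨w, hw, rfl⟩ := exists_toImg hq
    exact ⟨w, hw, tot_eq hw⟩

include he

/-- The common link of two members as the link of an image. -/
theorem bijOn_tot : Set.BijOn (tot D d) (link D d ∩ link D e) (link (img D d) (tot D d e)) := by
  refine ⟨fun w hw => ⟨?_, fun hq => hw.2.2.1 (tot_inj S hd hpair hw.1 he hq), ?_⟩,
    fun u hu v hv h => tot_inj S hd hpair hu.1 hv.1 h, fun q hq => ?_⟩
  · rw [tot_eq hw.1]; exact toImg_mem hw.1
  · exact (commute_tot_iff S he hw.1).2 hw.2.2.2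
  · obtain ⟨hq, hne, hcomm⟩ := hq
    obtain ⟨w, hw, rfl⟩ := exists_toImg hq
    rw [← tot_eq hw] at hne hcomm ⊢
    exact ⟨w, ⟨hw, hw.1, fun h => hne (h ▸ rfl), (commute_tot_iff S he hw).1 hcomm⟩, rfl⟩

omit hd hpair in
theorem tot_conj {a b : G} (ha : a ∈ link D d ∩ link D e) (hb : b ∈ link D d ∩ link D e) :
    a * b * a ∈ link D d ∩ link D e ∧ tot D d (a * b * a) = tot D d a * tot D d b * tot D d a := by
  have h1 := S.link_conj_self ha.1 hb.1
  refine ⟨⟨h1, S.link_conj_self ha.2 hb.2⟩, ?_⟩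
  rw [tot_eq h1, tot_eq ha.1, tot_eq hb.1]
  exact (Setting.toImg_conj ha.1 hb.1 h1).symm

end pair

omit [Finite G] in
theorem mem_link_of_noFixed {f : G → G} (hf : CfsgLib.FischerType.Sym D f)
    (hno : ∀ x ∈ D, f x ≠ x) {x : G} (hx : x ∈ D) : f x ∈ link D x := by
  refine ⟨hf.mem x hx, hno x hx, ?_⟩
  by_contra hnc
  exact hno _ (CfsgLib.FischerType.conj_mem S.cls hx (hf.mem x hx)) (hf.fix_third S.cls hx hnc)

/-- In type M(23) a symmetry fixes a member. -/
theorem exists_fixed_of_typeM23 (h : Cfsg.IsOfTypeM23 G D) {f : G → G}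
    (hf : CfsgLib.FischerType.Sym D f) : ∃ d ∈ D, f d = d := by
  classical
  haveI := Fintype.ofFinite G
  by_contra! hno
  obtain ⟨d, hd, hpair, SX, hX⟩ := CfsgLib.FischerCent.imgData_of_typeM23 S h
  have he := mem_link_of_noFixed S hf hno hd
  have hb := bijOn_tot S hd hpair he
  have hcard : (link D d ∩ link D (f d)).ncard = 693 := by
    rw [← hb.injOn.ncard_image, hb.image_eq]
    exact CfsgLib.FischerOrder.ncard_link SX hX ((bijOn_tot_img S hd hpair).mapsTo he)
  obtain ⟨a, ha, hfa⟩ := exists_fixed_of_odd (link D d ∩ link D (f d)).toFinset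
    (by rw [← Set.ncard_eq_toFinset_card', hcard]; exact ⟨346, rfl⟩) f
    (fun a ha => by
      have ha' := Set.mem_toFinset.1 ha
      have h2 := hf.map_link S.cls (hf.mem d hd) ha'.2
      rw [hf.invol d hd] at h2
      exact Set.mem_toFinset.2 ⟨h2, hf.map_link S.cls hd ha'.1⟩)
    (fun a ha => hf.invol a (Set.mem_toFinset.1 ha).1.1)
  exact hno a (Set.mem_toFinset.1 ha).1.1 hfa

/-- In type M(24) a symmetry fixes a member. -/
theorem exists_fixed_of_typeM24 (h : Cfsg.IsOfTypeM24 G D) {d₀ : G} (hd₀ : d₀ ∈ D)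
    (h3 : Cfsg.pCore 3 ↥(closure (link D d₀)) ≤ center ↥(closure (link D d₀)))
    (h2 : Cfsg.pCore 2 ↥(closure (link D d₀)) ≤ center ↥(closure (link D d₀))) {f : G → G}
    (hf : CfsgLib.FischerType.Sym D f) : ∃ d ∈ D, f d = d := by
  by_contra! hno
  obtain ⟨d, hd, SX, hX⟩ := S.quotSetting_of_typeM24 h hd₀ h3 h2
  have hpair := pair_of_typeM23_img hX
  obtain ⟨q, hq, hqpair, SY, hY⟩ := CfsgLib.FischerCent.imgData_of_typeM23 SX hX
  obtain ⟨e₀, he₀, rfl⟩ := exists_toImg hq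
  obtain ⟨g, hgd, hge⟩ := S.exists_conj_pair hd (mem_link_of_noFixed S hf hno hd) hd he₀
  have hf' := hf.conj_sym S.cls g
  have hgd' : g⁻¹ * d * g = d := by
    conv_lhs => rw [← hgd]
    group
  set f' : G → G := fun y => g * f (g⁻¹ * y * g) * g⁻¹ with hf'def
  have hfd : f' d = e₀ := by simp only [hf'def, hgd', hge]
  have hb₁ := bijOn_tot S hd hpair he₀
  rw [tot_eq he₀] at hb₁
  have hb := (bijOn_tot_img SX hq hqpair).comp hb₁
  obtain ⟨a, ha, hfa⟩ := exists_fixed_transfer (D := D) (fun a ha => ha.1.1) _ hb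
    (fun a ha b hb => by
      obtain ⟨h1, h1'⟩ := tot_conj S he₀ ha hb
      refine ⟨h1, ?_⟩
      simp only [Function.comp_apply, h1']
      have m1 := hb₁.mapsTo ha
      have m2 := hb₁.mapsTo hb
      have m3 := SX.link_conj_self m1 m2
      rw [tot_eq m3, tot_eq m1, tot_eq m2]
      exact (Setting.toImg_conj m1 m2 m3).symm)
    hf' (fun a ha => by
      have hed : f' e₀ = d := by rw [← hfd]; exact hf'.invol d hd
      have h1 := hf'.map_link S.cls hd ha.1
      have h2 := hf'.map_link S.cls he₀.1 ha.2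
      rw [hfd] at h1
      rw [hed] at h2
      exact ⟨h2, h1⟩)
    (fun _ hg' => exists_fixed_of_typeM22 SY hY hg')
  refine hno (g⁻¹ * a * g) ?_ ?_
  · simpa using CfsgLib.ThreeTransp.class_conj_mem S.cls g⁻¹ ha.1.1
  · calc f (g⁻¹ * a * g) = g⁻¹ * f' a * g := by simp only [hf'def]; group
      _ = g⁻¹ * a * g := by rw [hfa]

end CfsgLib.FischerInvol
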