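import Cfsg.Agent.Lib.FischerInvol.Four

set_option autoImplicit false

/-! Maximal commuting sets in type M(22): hexads, and the members commuting with none of their
members form one orbit of the group they generate. -/

namespace CfsgLib.FischerInvol

open Subgroup CfsgLib.Classical.Herm HermSpace CfsgLib.UnitaryTransv
open CfsgLib.FischerType
open CfsgLib.FischerInvol.U6
open CfsgLib.ThreeTrans (link mul_self inv_eq braid commute_conj_iff' conj_self_of_commute)

variable {G : Type*} [Group G] [Finite G] {D : Set G}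

/-- A set of 22 pairwise commuting members. -/
structure IsBase (D B : Set G) : Prop where
  sub : B ⊆ D
  comm : ∀ x ∈ B, ∀ y ∈ B, Commute x y
  card : B.ncard = 22

/-- The members commuting with no member of `B`. -/
def outside (D B : Set G) : Set G := {z | z ∈ D ∧ ∀ b ∈ B, ¬ Commute z b}

omit [Finite G] in
theorem IsBase.link_mem {B : Set G} (hB : IsBase D B) {x y : G} (hx : x ∈ B) (hy : y ∈ B)
    (hne : y ≠ x) : y ∈ link D x := ⟨hB.sub hy, hne, hB.comm x hx y hy⟩

namespace Data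

variable (H : Data D)

include H

theorem ncard_link {d : G} (hd : d ∈ D) : (link D d).ncard = 693 := by
  classical
  obtain ⟨F, i1, i2, ⟨M⟩⟩ := H.model d hd
  have h := M.ncard_mul_three (Q := fun v => v ≠ 0 ∧ (stdHerm M.hF 6).h v v = 0) (by
    rintro v ⟨h0, h1⟩
    exact ⟨h0, h1, fun t ht => ⟨smul_ne_zero ht h0, by
      rw [(stdHerm M.hF 6).smul_left, (stdHerm M.hF 6).smul_right, h1, mul_zero, mul_zero]⟩⟩)
  have hset : {w | ∃ v, (v ≠ 0 ∧ (stdHerm M.hF 6).h v v = 0) ∧ M.Rep w v} = link D d := by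
    ext w
    constructor
    · rintro ⟨v, -, hw⟩; exact hw.mem
    · intro hw
      obtain ⟨v, hv⟩ := M.exists_vec hw
      exact ⟨v, ⟨hv.ne_zero, hv.isotropic⟩, hv⟩
  rw [hset] at h
  have h2 := card_isotropic M.hF
  have hsplit : {v : Fin 6 → F | (stdHerm M.hF 6).h v v = 0} =
      insert 0 {v : Fin 6 → F | v ≠ 0 ∧ (stdHerm M.hF 6).h v v = 0} := by
    ext v
    simp only [Set.mem_ofPred_eq, Set.mem_insert_iff]
    by_cases hv : v = 0
    · simp only [hv, true_or, iff_true, (stdHerm M.hF 6).zero_left]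
    · simp [hv]
  have h3 := congrArg Set.ncard hsplit
  rw [Set.ncard_insert_of_notMem (fun h => h.1 rfl) (Set.toFinite _), ← Nat.card_coe_set_eq,
    ← Nat.card_coe_set_eq] at h3
  have e1 : Nat.card ↑{v : Fin 6 → F | (stdHerm M.hF 6).h v v = 0} = 2080 := h2
  have e2 : Nat.card {v : Fin 6 → F // v ≠ 0 ∧ (stdHerm M.hF 6).h v v = 0} = 2079 := by
    change Nat.card ↑{v : Fin 6 → F | v ≠ 0 ∧ (stdHerm M.hF 6).h v v = 0} = 2079
    omega
  omega

theorem exists_base {d : G} (hd : d ∈ D) : ∃ B, IsBase D B ∧ d ∈ B := by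
  obtain ⟨F, i1, i2, ⟨M⟩⟩ := H.model d hd
  exact ⟨M.base, ⟨fun x hx => M.base_subset hx, fun x hx y hy => M.base_commute hx hy,
    M.ncard_base⟩, Or.inl rfl⟩

/-- A base through `a` moves to the basic one. -/
theorem base_normalise {B : Set G} (hB : IsBase D B) {a : G} (ha : a ∈ B) {F : Type} [Field F]
    [Fintype F] (M : Model D a F) :
    ∃ k ∈ closure (link D a), (fun x => k * x * k⁻¹) '' B = M.base := by
  classical
  haveI : Finite B := Subtype.finite
  obtain ⟨b, hb, hba⟩ := Set.exists_ne_of_one_lt_ncard (by rw [hB.card]; norm_num : 1 < B.ncard) a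
  obtain ⟨c, hc, hc'⟩ := Set.exists_mem_notMem_of_ncard_lt_ncard (s := ({a, b} : Set G)) (t := B)
    (by rw [hB.card, Set.ncard_pair hba.symm]; norm_num)
  simp only [Set.mem_insert_iff, Set.mem_singleton_iff, not_or] at hc'
  have hbl := hB.link_mem ha hb hba
  have hcl := hB.link_mem ha hc hc'.1
  have hcb := hB.link_mem hb hc hc'.2
  obtain ⟨x, y, z, -, -, -, hR, -⟩ := H.partner a b c (hB.sub ha) hbl hcl hcb
  obtain ⟨p, hp, hp'⟩ := Set.exists_mem_notMem_of_ncard_lt_ncard
    (s := ({a, b, c, x, y, z} : Set G)) (t := B) (by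
      have i1 := Set.ncard_insert_le a ({b, c, x, y, z} : Set G)
      have i2 := Set.ncard_insert_le b ({c, x, y, z} : Set G)
      have i3 := Set.ncard_insert_le c ({x, y, z} : Set G)
      have i4 := Set.ncard_insert_le x ({y, z} : Set G)
      have i5 := Set.ncard_insert_le y ({z} : Set G)
      have i6 : ({z} : Set G).ncard = 1 := Set.ncard_singleton z
      rw [hB.card]
      omega)
  simp only [Set.mem_insert_iff, Set.mem_singleton_iff, not_or] at hp'
  obtain ⟨vb, hvb⟩ := M.exists_vec hbl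
  obtain ⟨vc, hvc⟩ := M.exists_vec hcl
  obtain ⟨vp, hvp⟩ := M.exists_vec (hB.link_mem ha hp hp'.1)
  have hind : ∀ α β : F, vp ≠ α • vb + β • vc := fun α β he => by
    have := (M.mem_radical_iff hvb hvc hcb.2.1.symm hcb.2.2).2
      ⟨hp'.2.1, hp'.2.2.1, vp, hvp, α, β, he⟩
    rw [hR] at this
    rcases this with h | h | h
    exacts [hp'.2.2.2.1 h, hp'.2.2.2.2.1 h, hp'.2.2.2.2.2 h]
  obtain ⟨k, hk, r1, r2, r3⟩ := M.normalise hvb hvc hvp hcb.2.2 (hB.comm b hb p hp) (hB.comm c hc p hp)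
    hcb.2.1.symm hind
  refine ⟨k, hk, Set.eq_of_subset_of_ncard_le ?_ ?_ (Set.toFinite _)⟩
  · rintro _ ⟨t, ht, rfl⟩
    refine M.mem_base (CfsgLib.ThreeTransp.class_conj_mem H.S.cls k (hB.sub ht)) ?_ r1 r2 r3
      ((commute_conj_iff' k t b).2 (hB.comm t ht b hb)) ((commute_conj_iff' k t c).2 (hB.comm t ht c hc))
      ((commute_conj_iff' k t p).2 (hB.comm t ht p hp))
    have := (commute_conj_iff' k a t).2 (hB.comm a ha t ht)
    rwa [conj_self_of_commute (Model.center_le_centralizer hk)] at this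
  · rw [M.ncard_base, Set.ncard_image_of_injective _ fun x y h => mul_left_cancel (mul_right_cancel h),
      hB.card]

/-- A member outside a base commutes with six or none of its members. -/
theorem hexad {B : Set G} (hB : IsBase D B) {z b : G} (hz : z ∈ D) (hzB : z ∉ B) (hb : b ∈ B)
    (hzb : Commute z b) : {x ∈ B | Commute z x}.ncard = 6 := by
  classical
  obtain ⟨F, i1, i2, ⟨M⟩⟩ := H.model b (hB.sub hb)
  obtain ⟨k, hk, hkB⟩ := H.base_normalise hB hb M
  have hkb : k * b * k⁻¹ = b := conj_self_of_commute (Model.center_le_centralizer hk)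
  have hinj : Function.Injective fun x => k * x * k⁻¹ :=
    fun x y h => mul_left_cancel (mul_right_cancel h)
  set z' := k * z * k⁻¹ with hz'
  have hz'l : z' ∈ link D b := ⟨CfsgLib.ThreeTransp.class_conj_mem H.S.cls k hz,
    fun h => hzB ((hinj (h.trans hkb.symm)).symm ▸ hb), hkb ▸ (commute_conj_iff' k b z).2 hzb.symm⟩
  have hz'B : z' ∉ M.base := by
    rw [← hkB]
    rintro ⟨x, hx, he⟩
    exact hzB (hinj he ▸ hx)
  have himg : (fun x => k * x * k⁻¹) '' {x ∈ B | Commute z x} = {x ∈ M.base | Commute z' x} := by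
    rw [← hkB]
    ext y
    constructor
    · rintro ⟨x, ⟨hx, hc⟩, rfl⟩
      exact ⟨⟨x, hx, rfl⟩, (commute_conj_iff' k z x).2 hc⟩
    · rintro ⟨⟨x, hx, rfl⟩, hc⟩
      exact ⟨x, ⟨hx, (commute_conj_iff' k z x).1 hc⟩, rfl⟩
  rw [← Set.ncard_image_of_injective _ hinj, himg]
  obtain ⟨s, hs⟩ := M.exists_vec hz'l
  let L : F × F × F →ₗ[F] F :=
    { toFun := fun p => (stdHerm M.hF 6).h (P p.1 p.2.1 p.2.2) s
      map_add' := fun p q => by rw [← (stdHerm M.hF 6).add_left, P_add]; rfl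
      map_smul' := fun t p => by rw [RingHom.id_apply, smul_eq_mul, ← (stdHerm M.hF 6).smul_left, P_smul]; rfl }
  have hL : Function.Surjective L := by
    refine LinearMap.surjective ?_
    intro h0
    refine hz'B (Or.inr ⟨s 0, s 2, s 4, ?_⟩)
    have e := fun p => LinearMap.congr_fun h0 p
    rw [← eq_P_of_orth M.hF (x := s) ((stdHerm M.hF 6).h_comm_zero (e (1, 0, 0)))
      ((stdHerm M.hF 6).h_comm_zero (e (0, 1, 0))) ((stdHerm M.hF 6).h_comm_zero (e (0, 0, 1)))]
    exact hs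
  have hker : Nat.card (LinearMap.ker L) = 16 := by
    have h1 := Submodule.card_eq_card_quotient_mul_card (LinearMap.ker L)
    rw [Nat.card_congr (LinearMap.quotKerEquivOfSurjective L hL).toEquiv, Nat.card_prod, Nat.card_prod,
      Nat.card_eq_fintype_card (α := F), M.hF] at h1
    omega
  have h := M.ncard_mul_three
    (Q := fun v => v ≠ 0 ∧ (∃ a b c, v = P a b c) ∧ (stdHerm M.hF 6).h v s = 0) (by
    rintro v ⟨hv0, ⟨a, b, c, rfl⟩, ho⟩
    exact ⟨hv0, P_orth M.hF _ _ _ _ _ _, fun t ht => ⟨smul_ne_zero ht hv0, ⟨_, _, _, P_smul t a b c⟩,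
      by rw [(stdHerm M.hF 6).smul_left, ho, mul_zero]⟩⟩)
  have e : Nat.card {v : Fin 6 → F // v ≠ 0 ∧ (∃ a b c, v = P a b c) ∧ (stdHerm M.hF 6).h v s = 0} =
      Nat.card {p : LinearMap.ker L // p ≠ 0} := by
    refine (Nat.card_eq_of_bijective
      (fun p : {p : LinearMap.ker L // p ≠ 0} =>
        (⟨P p.1.1.1 p.1.1.2.1 p.1.1.2.2, fun h0 => p.2 (by
            obtain ⟨h1, h2, h3⟩ := P_eq_zero.1 h0
            exact Subtype.ext (Prod.ext h1 (Prod.ext h2 h3))),
          ⟨_, _, _, rfl⟩, p.1.2⟩ :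
          {v : Fin 6 → F // v ≠ 0 ∧ (∃ a b c, v = P a b c) ∧ (stdHerm M.hF 6).h v s = 0}))
      ⟨fun p q h => ?_, fun v => ?_⟩).symm
    · have h' := congrArg Subtype.val h
      exact Subtype.ext (Subtype.ext
        (Prod.ext (congrFun h' 0) (Prod.ext (congrFun h' 2) (congrFun h' 4))))
    · obtain ⟨hv0, ⟨a, b, c, hv⟩, ho⟩ := v.2
      refine ⟨⟨⟨(a, b, c), show (stdHerm M.hF 6).h (P a b c) s = 0 by rw [← hv]; exact ho⟩,
        fun h0 => hv0 ?_⟩, Subtype.ext hv.symm⟩
      have h1 : ((a, b, c) : F × F × F) = 0 := congrArg Subtype.val h0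
      simp only [Prod.mk_eq_zero] at h1
      rw [hv, P_eq_zero]
      exact h1
  haveI := Fintype.ofFinite (LinearMap.ker L)
  rw [e, Nat.card_eq_fintype_card, Fintype.card_subtype_compl, Fintype.card_subtype_eq,
    ← Nat.card_eq_fintype_card, hker] at h
  have hset : {x ∈ M.base | Commute z' x} = insert b
      {w | ∃ v, (v ≠ 0 ∧ (∃ a b c, v = P a b c) ∧ (stdHerm M.hF 6).h v s = 0) ∧ M.Rep w v} := by
    ext w
    constructor
    · rintro ⟨hw | ⟨a, b', c, hw⟩, hc⟩
      · exact Or.inl hw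
      · exact Or.inr ⟨_, ⟨hw.ne_zero, ⟨a, b', c, rfl⟩, (M.commute_iff hw hs).1 hc.symm⟩, hw⟩
    · rintro (rfl | ⟨v, ⟨-, ⟨a, b', c, rfl⟩, ho⟩, hw⟩)
      · exact ⟨Or.inl rfl, hz'l.2.2.symm⟩
      · exact ⟨Or.inr ⟨a, b', c, hw⟩, ((M.commute_iff hw hs).2 ho).symm⟩
  have hnb : b ∉ {w | ∃ v, (v ≠ 0 ∧ (∃ a b c, v = P a b c) ∧ (stdHerm M.hF 6).h v s = 0) ∧ M.Rep w v} := by
    rintro ⟨v, -, hw⟩
    exact hw.mem.2.1 rfl
  rw [hset, Set.ncard_insert_of_notMem hnb]
  omega

/-- A base is maximal. -/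
theorem mem_of_commute_all {B : Set G} (hB : IsBase D B) {x : G} (hx : x ∈ D)
    (h : ∀ b ∈ B, Commute x b) : x ∈ B := by
  by_contra hxB
  obtain ⟨b, hb⟩ := Set.nonempty_of_ncard_ne_zero (by rw [hB.card]; norm_num : B.ncard ≠ 0)
  have h6 := H.hexad hB hx hxB hb (h b hb)
  rw [Set.sep_eq_self_iff_mem_true.2 h, hB.card] at h6
  norm_num at h6

/-- The number of members commuting with no member of a base. -/
theorem ncard_outside {B : Set G} (hB : IsBase D B) (hn : D.ncard = 3510) :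
    (outside D B).ncard = 1024 := by
  classical
  haveI := Fintype.ofFinite G
  set DF := D.toFinset with hDF
  set BF := B.toFinset with hBF
  have hlink : ∀ b ∈ BF, (DF.filter fun z => Commute z b ∧ z ≠ b).card = 693 := by
    intro b hb
    rw [← H.ncard_link (hB.sub (Set.mem_toFinset.1 hb)), ← Set.ncard_coe_finset]
    congr 1
    ext z
    simp only [hDF, Finset.coe_filter, Set.mem_toFinset]
    exact ⟨fun h => ⟨h.1, h.2.2, h.2.1.symm⟩, fun h => ⟨h.1, h.2.2.symm, h.2.1⟩⟩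
  have hsum : ∑ z ∈ DF, (BF.filter fun b => Commute z b ∧ z ≠ b).card = 22 * 693 := by
    simp only [Finset.card_filter]
    rw [Finset.sum_comm]
    simp only [← Finset.card_filter]
    rw [Finset.sum_congr rfl hlink, Finset.sum_const, smul_eq_mul, hBF, ← Set.ncard_eq_toFinset_card',
      hB.card]
  have hin : ∀ z ∈ BF, (BF.filter fun b => Commute z b ∧ z ≠ b).card = 21 := by
    intro z hz
    have : BF.filter (fun b => Commute z b ∧ z ≠ b) = BF.erase z := by
      ext b
      simp only [Finset.mem_filter, Finset.mem_erase]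
      exact ⟨fun h => ⟨h.2.2.symm, h.1⟩, fun h => ⟨h.2,
        hB.comm z (Set.mem_toFinset.1 hz) b (Set.mem_toFinset.1 h.2), h.1.symm⟩⟩
    rw [this, Finset.card_erase_of_mem hz, hBF, ← Set.ncard_eq_toFinset_card', hB.card]
  have hsub : BF ⊆ DF := fun b hb => Set.mem_toFinset.2 (hB.sub (Set.mem_toFinset.1 hb))
  set XF := (DF \ BF).filter (fun z => ∀ b ∈ BF, ¬ Commute z b) with hXF
  set HF := (DF \ BF).filter (fun z => ¬ ∀ b ∈ BF, ¬ Commute z b) with hHF
  have hout : ∀ z ∈ XF, (BF.filter fun b => Commute z b ∧ z ≠ b).card = 0 := by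
    intro z hz
    rw [Finset.card_eq_zero, Finset.filter_eq_empty_iff]
    exact fun b hb h => (Finset.mem_filter.1 hz).2 b hb h.1
  have hhex : ∀ z ∈ HF, (BF.filter fun b => Commute z b ∧ z ≠ b).card = 6 := by
    intro z hz
    obtain ⟨hz1, hz2⟩ := Finset.mem_filter.1 hz
    push Not at hz2
    obtain ⟨b, hb, hzb⟩ := hz2
    obtain ⟨hzD, hzB⟩ := Finset.mem_sdiff.1 hz1
    have hzB' : z ∉ B := fun h => hzB (Set.mem_toFinset.2 h)
    rw [← H.hexad hB (Set.mem_toFinset.1 hzD) hzB' (Set.mem_toFinset.1 hb) hzb, ← Set.ncard_coe_finset]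
    congr 1
    ext x
    simp only [hBF, Finset.coe_filter, Set.mem_toFinset]
    exact ⟨fun h => ⟨h.1, h.2.1⟩, fun h => ⟨h.1, h.2, fun e => hzB' (e ▸ h.1)⟩⟩
  rw [← Finset.sum_sdiff hsub, Finset.sum_congr rfl hin,
    ← Finset.sum_filter_add_sum_filter_not (DF \ BF) (fun z => ∀ b ∈ BF, ¬ Commute z b),
    Finset.sum_congr rfl hout, Finset.sum_congr rfl hhex] at hsum
  simp only [Finset.sum_const, smul_eq_mul, mul_zero, zero_add] at hsum
  have hBc : BF.card = 22 := by rw [hBF, ← Set.ncard_eq_toFinset_card', hB.card]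
  have hDc : (DF \ BF).card = 3510 - 22 := by
    rw [Finset.card_sdiff_of_subset hsub, hBc, hDF, ← Set.ncard_eq_toFinset_card', hn]
  have hsplit : XF.card + HF.card = (DF \ BF).card := Finset.card_filter_add_card_filter_not _
  have hX : (outside D B).ncard = XF.card := by
    rw [← Set.ncard_coe_finset]
    congr 1
    ext z
    simp only [hXF, hDF, hBF, Finset.coe_filter, Finset.mem_sdiff, Set.mem_toFinset, outside]
    exact ⟨fun h => ⟨⟨h.1, fun hz => h.2 z hz (Commute.refl z)⟩, h.2⟩, fun h => ⟨h.1.1, h.2⟩⟩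
  rw [hBc] at hsum
  have : HF.card = 2464 := by
    have e : HF.card * 6 + 22 * 21 = 22 * 693 := by convert hsum using 2
    omega
  omega

end Data

end CfsgLib.FischerInvol
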