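import Cfsg.Agent.Lib.FischerInvol.Fixed
import Cfsg.Agent.Lib.FischerCent.Levels

set_option autoImplicit false

/-! Products of commuting members: one level from the image of a link. -/

namespace CfsgLib.FischerInvol

open Subgroup CfsgLib.FischerType
open CfsgLib.ThreeTrans (link mul_self inv_eq commute_conj_iff' conj_self_of_commute)

variable {G : Type*} [Group G] {D : Set G}

/-- The image of a member of the link, extended to the group. -/
noncomputable def tot (D : Set G) (d : G) (w : G) : Quot D d :=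
  @dite _ (w ∈ link D d) (Classical.propDecidable _) (fun h => toImg D d h) (fun _ => 1)

theorem tot_eq {d w : G} (h : w ∈ link D d) : tot D d w = toImg D d h := dif_pos h

/-- Pairwise commuting members. -/
structure Com (D : Set G) (l : List G) : Prop where
  mem : ∀ a ∈ l, a ∈ D
  comm : ∀ a ∈ l, ∀ b ∈ l, Commute a b

/-- A product of at most `n` pairwise commuting members. -/
def UpTo (D : Set G) (n : ℕ) (x : G) : Prop := ∃ l : List G, Com D l ∧ l.length ≤ n ∧ l.prod = x

/-- A member outside at most `n` commuting members is separated from them by a member. -/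
def Sep (D : Set G) (n : ℕ) : Prop :=
  ∀ l : List G, Com D l → l.length ≤ n → ∀ b ∈ D, (∀ a ∈ l, Commute a b) → b ∉ l →
    ∃ z ∈ D, (∀ a ∈ l, Commute z a) ∧ ¬ Commute z b

/-- Ordered tuples of `k` different commuting members are conjugate. -/
def Trans (D : Set G) (k : ℕ) : Prop :=
  ∀ l l' : List G, Com D l → l.Nodup → l.length = k → Com D l' → l'.Nodup → l'.length = k →
    ∃ g : G, l.map (fun x => g * x * g⁻¹) = l'

/-- There are `k` different commuting members. -/
def Has (D : Set G) (k : ℕ) : Prop := ∃ l : List G, Com D l ∧ l.Nodup ∧ l.length = k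

theorem Com.sub {l l' : List G} (h : Com D l) (hs : ∀ a ∈ l', a ∈ l) : Com D l' :=
  ⟨fun a ha => h.mem a (hs a ha), fun a ha b hb => h.comm a (hs a ha) b (hs b hb)⟩

theorem Com.pairwise {l : List G} (h : Com D l) : l.Pairwise Commute :=
  List.pairwise_of_forall_mem_list h.comm

theorem Com.nil : Com D ([] : List G) := ⟨fun a ha => (nomatch ha), fun a ha => (nomatch ha)⟩

theorem Com.cons {a : G} {l : List G} (ha : a ∈ D) (h : Com D l) (hc : ∀ b ∈ l, Commute a b) :
    Com D (a :: l) := by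
  refine ⟨fun x hx => ?_, fun x hx y hy => ?_⟩
  · rcases List.mem_cons.1 hx with rfl | hx
    exacts [ha, h.mem x hx]
  · rcases List.mem_cons.1 hx with hxa | hxl <;> rcases List.mem_cons.1 hy with hya | hyl
    · exact hxa ▸ hya ▸ Commute.refl _
    · exact hxa ▸ hc y hyl
    · exact hya ▸ (hc x hxl).symm
    · exact h.comm x hxl y hyl

theorem Com.conj (hc : Cfsg.IsThreeTranspositionClass D) (g : G) {l : List G} (h : Com D l) :
    Com D (l.map fun x => g * x * g⁻¹) := by
  refine ⟨fun a ha => ?_, fun a ha b hb => ?_⟩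
  · obtain ⟨x, hx, rfl⟩ := List.mem_map.1 ha
    exact CfsgLib.ThreeTransp.class_conj_mem hc g (h.mem x hx)
  · obtain ⟨x, hx, rfl⟩ := List.mem_map.1 ha
    obtain ⟨y, hy, rfl⟩ := List.mem_map.1 hb
    exact (commute_conj_iff' g x y).2 (h.comm x hx y hy)

theorem prod_conj (g : G) (l : List G) : (l.map fun x => g * x * g⁻¹).prod = g * l.prod * g⁻¹ := by
  induction l with
  | nil => simp
  | cons a t ih => rw [List.map_cons, List.prod_cons, List.prod_cons, ih]; group

theorem UpTo.conj (hc : Cfsg.IsThreeTranspositionClass D) (g : G) {n : ℕ} {x : G}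
    (h : UpTo D n x) : UpTo D n (g * x * g⁻¹) := by
  obtain ⟨l, hl, hn, rfl⟩ := h
  exact ⟨_, hl.conj hc g, by simpa using hn, prod_conj g l⟩

/-- Repeated members cancel. -/
theorem Com.exists_nodup (hset : Cfsg.IsThreeTranspositionSet D) : ∀ {l : List G}, Com D l →
    ∃ l' : List G, Com D l' ∧ l'.Nodup ∧ l'.length ≤ l.length ∧ l'.prod = l.prod ∧ ∀ a ∈ l', a ∈ l := by
  classical
  intro l
  induction l with
  | nil => exact fun h => ⟨[], h, List.nodup_nil, le_rfl, rfl, fun a ha => ha⟩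
  | cons a t ih =>
    intro h
    obtain ⟨t', ht', hnd, hlen, hprod, hsub⟩ := ih (h.sub fun x hx => List.mem_cons_of_mem a hx)
    by_cases ha : a ∈ t'
    · have hp := (List.perm_cons_erase ha).prod_eq' ht'.pairwise
      refine ⟨t'.erase a, ht'.sub fun x hx => List.mem_of_mem_erase hx, hnd.erase a, ?_, ?_,
        fun x hx => List.mem_cons_of_mem a (hsub x (List.mem_of_mem_erase hx))⟩
      · have := List.length_erase_of_mem ha
        simp only [List.length_cons]
        omega
      · rw [List.prod_cons, ← hprod, hp, List.prod_cons, ← mul_assoc,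
          mul_self hset (h.mem a List.mem_cons_self), one_mul]
    · refine ⟨a :: t', h.sub fun x hx => ?_, List.nodup_cons.2 ⟨ha, hnd⟩,
        by simp only [List.length_cons]; omega, by rw [List.prod_cons, List.prod_cons, hprod],
        fun x hx => ?_⟩ <;>
      · rcases List.mem_cons.1 hx with rfl | hx
        exacts [List.mem_cons_self, List.mem_cons_of_mem _ (hsub x hx)]

/-- Commuting with a short product means commuting with each factor. -/
theorem Com.commute_of_prod (hset : Cfsg.IsThreeTranspositionSet D) {l : List G} (h : Com D l)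
    (hnd : l.Nodup) {z : G} (hz : z ∈ D) (hc : Commute z l.prod) (hlen : l.length ≤ 3) :
    ∀ b ∈ l, Commute z b := by
  match l, h, hnd, hlen, hc with
  | [], _, _, _, _ => exact fun b hb => nomatch hb
  | [a], _, _, _, hc => simpa using hc
  | [a, b], h, hnd, _, hc =>
    have := commute_of_commute_mul_two hset (h.mem a (by simp)) (h.mem b (by simp)) hz
      (by simpa using hnd) (by simpa using hc)
    simpa using this
  | [a, b, c], h, hnd, _, hc =>
    simp only [List.nodup_cons, List.mem_cons, List.not_mem_nil, or_false, not_or] at hnd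
    have := commute_of_commute_mul_three hset (h.mem a (by simp)) (h.mem b (by simp))
      (h.mem c (by simp)) hz hnd.1.1 hnd.1.2 hnd.2.1 (h.comm a (by simp) b (by simp))
      (h.comm a (by simp) c (by simp)) (h.comm b (by simp) c (by simp))
      (by simpa [mul_assoc] using hc)
    simpa using this
  | _ :: _ :: _ :: _ :: _, _, _, hlen, _ => simp only [List.length_cons] at hlen; omega

/-- Four factors, one of which is known to commute. -/
theorem Com.commute_of_prod_four (hset : Cfsg.IsThreeTranspositionSet D) {l : List G} (h : Com D l)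
    (hnd : l.Nodup) {z : G} (hz : z ∈ D) (hc : Commute z l.prod) (hlen : l.length ≤ 4) {a : G}
    (ha : a ∈ l) (hza : Commute z a) : ∀ b ∈ l, Commute z b := by
  classical
  intro b hb
  by_cases hba : b = a
  · exact hba ▸ hza
  have hp := (List.perm_cons_erase ha).prod_eq' h.pairwise
  refine (h.sub fun x hx => List.mem_of_mem_erase hx).commute_of_prod hset (hnd.erase a) hz ?_ ?_ b
    ((List.mem_erase_of_ne hba).2 hb)
  · rw [hp, List.prod_cons] at hc
    have := hza.mul_right hc
    rwa [← mul_assoc, mul_self hset (h.mem a ha), one_mul] at this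
  · have := List.length_erase_of_mem ha
    omega

/-- Products of different numbers of commuting members differ. -/
theorem prod_ne (hset : Cfsg.IsThreeTranspositionSet D) {s : ℕ} (hs : Sep D s) {A B : List G}
    (hA : Com D A) (hA' : A.Nodup) (hB : Com D B) (hB' : B.Nodup) (hlt : A.length < B.length)
    (h4 : B.length ≤ 3 ∧ A.length ≤ s ∨ B.length ≤ 4 ∧ A.length + 1 ≤ s) : A.prod ≠ B.prod := by
  classical
  intro h
  have cAB : ∀ a ∈ A, ∀ b ∈ B, Commute a b := fun a ha b hb =>
    (hA.commute_of_prod hset hA' (hB.mem b hb)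
      (h ▸ Commute.list_prod_right _ _ fun c hc => hB.comm b hb c hc) (by omega) a ha).symm
  obtain ⟨b₀, hb₀, hb₀A⟩ : ∃ b ∈ B, b ∉ A := by
    by_contra! hsub
    have := (hB'.subperm fun x hx => hsub x hx).length_le
    omega
  by_cases hB3 : B.length ≤ 3 ∧ A.length ≤ s
  · obtain ⟨z, hz, hzA, hzb⟩ := hs A hA hB3.2 b₀ (hB.mem b₀ hb₀) (fun a ha => cAB a ha b₀ hb₀) hb₀A
    exact hzb (hB.commute_of_prod hset hB' hz (h ▸ Commute.list_prod_right _ _ hzA) hB3.1 b₀ hb₀)
  obtain ⟨hB4, hAs⟩ := h4.resolve_left hB3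
  rcases hlt' : B.erase b₀ with _ | ⟨b₁, t⟩
  · have h0 := List.length_erase_of_mem hb₀
    rw [hlt', List.length_nil] at h0
    exact hB3 ⟨by omega, by omega⟩
  obtain ⟨hne, hb₁⟩ := hB'.mem_erase_iff.1 (hlt'.symm ▸ List.mem_cons_self : b₁ ∈ B.erase b₀)
  have hcom : Com D (b₁ :: A) := hA.cons (hB.mem b₁ hb₁) fun a ha => (cAB a ha b₁ hb₁).symm
  obtain ⟨z, hz, hzA, hzb⟩ := hs (b₁ :: A) hcom (by simpa using hAs) b₀ (hB.mem b₀ hb₀)
    (fun a ha => by
      rcases List.mem_cons.1 ha with rfl | ha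
      exacts [hB.comm a hb₁ b₀ hb₀, cAB a ha b₀ hb₀])
    (by simp [hb₀A, Ne.symm hne])
  refine hzb (hB.commute_of_prod_four hset hB' hz ?_ hB4 hb₁ (hzA b₁ List.mem_cons_self) b₀ hb₀)
  exact h ▸ Commute.list_prod_right _ _ fun a ha => hzA a (List.mem_cons_of_mem _ ha)

/-- The statement on classes, from the four properties. -/
theorem classes (hset : Cfsg.IsThreeTranspositionSet D) {N s : ℕ} (hs : Sep D s)
    (hN : N ≤ 3 ∧ N ≤ s + 1 ∨ N ≤ 4 ∧ N ≤ s) (hsurj : ∀ x : G, x * x = 1 → UpTo D N x)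
    (hhas : Has D N) (htr : ∀ k, 1 ≤ k → k ≤ N → Trans D k) :
    (∀ x : G, orderOf x = 2 → ∃ m : ℕ, 1 ≤ m ∧ m ≤ N ∧ (∃ l : List G, l.Nodup ∧ l.length = m ∧
        (∀ a ∈ l, a ∈ D) ∧ (∀ a ∈ l, ∀ b ∈ l, Commute a b) ∧ l.prod = x)) ∧
      (∀ m : ℕ, 1 ≤ m → m ≤ N → (∃ x : G, orderOf x = 2 ∧ (∃ l : List G, l.Nodup ∧ l.length = m ∧
          (∀ a ∈ l, a ∈ D) ∧ (∀ a ∈ l, ∀ b ∈ l, Commute a b) ∧ l.prod = x)) ∧
        ∀ x y : G, (∃ l : List G, l.Nodup ∧ l.length = m ∧ (∀ a ∈ l, a ∈ D) ∧
            (∀ a ∈ l, ∀ b ∈ l, Commute a b) ∧ l.prod = x) →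
          (∃ l : List G, l.Nodup ∧ l.length = m ∧ (∀ a ∈ l, a ∈ D) ∧
            (∀ a ∈ l, ∀ b ∈ l, Commute a b) ∧ l.prod = y) → IsConj x y) ∧
      ∀ (m m' : ℕ) (x : G), 1 ≤ m → m ≤ N → 1 ≤ m' → m' ≤ N →
        (∃ l : List G, l.Nodup ∧ l.length = m ∧ (∀ a ∈ l, a ∈ D) ∧
          (∀ a ∈ l, ∀ b ∈ l, Commute a b) ∧ l.prod = x) →
        (∃ l : List G, l.Nodup ∧ l.length = m' ∧ (∀ a ∈ l, a ∈ D) ∧
          (∀ a ∈ l, ∀ b ∈ l, Commute a b) ∧ l.prod = x) → m = m' := by
  have hne : ∀ {A B : List G}, Com D A → A.Nodup → Com D B → B.Nodup → A.length < B.length →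
      B.length ≤ N → A.prod ≠ B.prod := fun hA hA' hB hB' hlt hle =>
    prod_ne hset hs hA hA' hB hB' hlt (by omega)
  refine ⟨fun x hx => ?_, fun m hm hmN => ⟨?_, ?_⟩, ?_⟩
  · have hx2 : x * x = 1 := by rw [← sq, ← hx, pow_orderOf_eq_one]
    obtain ⟨l₀, hl₀, hn₀, rfl⟩ := hsurj x hx2
    obtain ⟨l, hl, hnd, hlen, hprod, -⟩ := hl₀.exists_nodup hset
    refine ⟨l.length, ?_, hlen.trans hn₀, l, hnd, rfl, hl.mem, hl.comm, hprod⟩
    rcases l with _ | ⟨a, t⟩
    · rw [← hprod, List.prod_nil, orderOf_one] at hx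
      omega
    · simp
  · obtain ⟨l, hl, hnd, hlen⟩ := hhas
    have hlen' : (l.take m).length = m := by rw [List.length_take]; omega
    have hl' : Com D (l.take m) := hl.sub fun a ha => List.mem_of_mem_take ha
    have hnd' : (l.take m).Nodup := hnd.sublist (List.take_sublist m l)
    refine ⟨(l.take m).prod, ?_, l.take m, hnd', hlen', hl'.mem, hl'.comm, rfl⟩
    refine orderOf_eq_prime ?_ fun h1 => hne Com.nil List.nodup_nil hl' hnd'
      (by rw [hlen', List.length_nil]; omega) (by omega) (by rw [h1, List.prod_nil])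
    rw [sq]
    have key : ∀ t : List G, Com D t → t.prod * t.prod = 1 := by
      intro t ht
      induction t with
      | nil => simp
      | cons a t ih =>
        have hc : Commute a t.prod := Commute.list_prod_right _ _ fun b hb =>
          ht.comm a List.mem_cons_self b (List.mem_cons_of_mem a hb)
        rw [List.prod_cons, hc.symm.mul_mul_mul_comm, mul_self hset (ht.mem a List.mem_cons_self),
          one_mul]
        exact ih (ht.sub fun b hb => List.mem_cons_of_mem a hb)
    exact key _ hl'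
  · rintro _ _ ⟨l, hnd, hlen, h1, h2, rfl⟩ ⟨l', hnd', hlen', h1', h2', rfl⟩
    obtain ⟨g, rfl⟩ := htr m hm hmN l l' ⟨h1, h2⟩ hnd hlen ⟨h1', h2'⟩ hnd' hlen'
    exact isConj_iff.2 ⟨g, (prod_conj g l).symm⟩
  · rintro m m' _ - hm - hm' ⟨l, hnd, rfl, h1, h2, rfl⟩ ⟨l', hnd', rfl, h1', h2', he⟩
    rcases lt_trichotomy l.length l'.length with h | h | h
    · exact absurd he.symm (hne ⟨h1, h2⟩ hnd ⟨h1', h2'⟩ hnd' h hm')
    · exact h
    · exact absurd he (hne ⟨h1', h2'⟩ hnd' ⟨h1, h2⟩ hnd h hm)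

theorem Trans.one (hc : Cfsg.IsThreeTranspositionClass D) : Trans D 1 := by
  intro l l' hl _ hlen hl' _ hlen'
  obtain ⟨a, rfl⟩ := List.length_eq_one_iff.1 hlen
  obtain ⟨b, rfl⟩ := List.length_eq_one_iff.1 hlen'
  obtain ⟨g, hg⟩ := CfsgLib.ThreeTransp.class_conj hc (hl.mem a (by simp)) (hl'.mem b (by simp))
  exact ⟨g, by simp [hg]⟩

variable [Finite G] (S : Setting D)

include S

theorem Trans.two : Trans D 2 := by
  intro l l' hl hnd hlen hl' hnd' hlen'
  obtain ⟨a, b, rfl⟩ := List.length_eq_two.1 hlen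
  obtain ⟨c, e, rfl⟩ := List.length_eq_two.1 hlen'
  obtain ⟨g, h1, h2⟩ := S.exists_conj_pair (hl.mem a (by simp))
    (b := b) ⟨hl.mem b (by simp), Ne.symm (by simpa using hnd), hl.comm a (by simp) b (by simp)⟩
    (hl'.mem c (by simp))
    (e := e) ⟨hl'.mem e (by simp), Ne.symm (by simpa using hnd'), hl'.comm c (by simp) e (by simp)⟩
  exact ⟨g, by simp [h1, h2]⟩

theorem Sep.zero : Sep D 0 := by
  intro l _ hlen b hb _ _
  obtain rfl := List.eq_nil_of_length_eq_zero (Nat.le_zero.1 hlen)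
  by_contra hno
  have hall : ∀ z ∈ D, Commute z b := fun z hz => by
    by_contra hc
    exact hno ⟨z, hz, fun a ha => (nomatch ha), hc⟩
  refine CfsgLib.ThreeTrans.ne_one S.cls.1 hb ?_
  rw [← mem_bot, ← S.center_bot]
  refine mem_center_iff.2 fun g => ?_
  have : g ∈ centralizer {b} := (show closure D ≤ centralizer {b} from (closure_le _).2 fun z hz =>
    mem_centralizer_singleton_iff.2 (hall z hz)) (S.cls.2.2.symm ▸ mem_top g)
  exact mem_centralizer_singleton_iff.1 this

variable {d : G} (hd : d ∈ D) (hpair : ∃ u ∈ link D d, ∃ v ∈ link D d, ¬ Commute u v)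

include hd hpair

theorem tot_inj {u v : G} (hu : u ∈ link D d) (hv : v ∈ link D d) (h : tot D d u = tot D d v) :
    u = v :=
  eq_of_toImg S.cls.1 (S.noCentral hd hpair) hu hv (by rwa [tot_eq hu, tot_eq hv] at h)

omit hd hpair in
theorem commute_tot_iff {u v : G} (hu : u ∈ link D d) (hv : v ∈ link D d) :
    Commute (tot D d u) (tot D d v) ↔ Commute u v := by
  rw [tot_eq hu, tot_eq hv]
  exact ⟨commute_of_toImg S.cls.1 hu hv, commute_toImg hu hv⟩

omit hd hpair in
theorem exists_lift_list : ∀ L : List (Quot D d), Com (img D d) L →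
    ∃ ws : List G, (∀ w ∈ ws, w ∈ link D d) ∧ Com D ws ∧ ws.map (tot D d) = L := by
  intro L
  induction L with
  | nil => exact fun _ => ⟨[], fun w hw => (nomatch hw), Com.nil, rfl⟩
  | cons q L ih =>
    intro h
    obtain ⟨ws, hws, hcom, rfl⟩ := ih (h.sub fun x hx => List.mem_cons_of_mem q hx)
    obtain ⟨w, hw, rfl⟩ := exists_toImg (h.mem q List.mem_cons_self)
    refine ⟨w :: ws, fun x hx => ?_, hcom.cons hw.1 fun x hx => ?_, by rw [List.map_cons, tot_eq hw]⟩
    · rcases List.mem_cons.1 hx with rfl | hx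
      exacts [hw, hws x hx]
    · refine (commute_tot_iff S hw (hws x hx)).1 (h.comm _ ?_ _ ?_)
      · rw [tot_eq hw]; exact List.mem_cons_self
      · exact List.mem_cons_of_mem _ (List.mem_map_of_mem hx)

omit hd hpair in
theorem com_map {ws : List G} (hws : ∀ w ∈ ws, w ∈ link D d) (h : Com D ws) :
    Com (img D d) (ws.map (tot D d)) := by
  refine ⟨fun q hq => ?_, fun q hq r hr => ?_⟩
  · obtain ⟨w, hw, rfl⟩ := List.mem_map.1 hq
    rw [tot_eq (hws w hw)]; exact toImg_mem _
  · obtain ⟨w, hw, rfl⟩ := List.mem_map.1 hq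
    obtain ⟨u, hu, rfl⟩ := List.mem_map.1 hr
    exact (commute_tot_iff S (hws w hw) (hws u hu)).2 (h.comm w hw u hu)

omit hd hpair in
theorem exists_prod_lift : ∀ ws : List G, (∀ w ∈ ws, w ∈ link D d) →
    ∃ P : ↥(closure (link D d)), (P : G) = ws.prod ∧
      (QuotientGroup.mk P : Quot D d) = (ws.map (tot D d)).prod := by
  intro ws
  induction ws with
  | nil => exact fun _ => ⟨1, rfl, rfl⟩
  | cons w ws ih =>
    intro h
    obtain ⟨P, hP, hq⟩ := ih fun x hx => h x (List.mem_cons_of_mem w hx)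
    have hw := h w List.mem_cons_self
    exact ⟨⟨w, subset_closure hw⟩ * P, by simp [hP],
      by rw [QuotientGroup.mk_mul, hq, List.map_cons, List.prod_cons, tot_eq hw]⟩

theorem Has.step {k : ℕ} (h : Has (img D d) k) : Has D (k + 1) := by
  obtain ⟨L, hL, hnd, hlen⟩ := h
  obtain ⟨ws, hws, hcom, rfl⟩ := exists_lift_list S L hL
  refine ⟨d :: ws, hcom.cons hd fun w hw => (hws w hw).2.2,
    List.nodup_cons.2 ⟨fun hm => (hws d hm).2.1 rfl, hnd.of_map _⟩, by simpa using hlen⟩

theorem Sep.step {k : ℕ} (h : Sep (img D d) k) : Sep D (k + 1) := by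
  classical
  intro l hl hlen b hb hcb hnb
  rcases l with _ | ⟨a, t⟩
  · exact Sep.zero S [] hl le_rfl b hb hcb hnb
  obtain ⟨g, hg⟩ := CfsgLib.ThreeTransp.class_conj S.cls (hl.mem a List.mem_cons_self) hd
  set φ : G → G := fun x => g * x * g⁻¹ with hφ
  have hmem : ∀ x ∈ D, Commute a x → x ≠ a → φ x ∈ link D d := fun x hx hc hne => by
    have := link_conj_mem S.cls g (d := a) (u := x) ⟨hx, hne, hc⟩
    rwa [hg] at this
  set t' := ((t.filter (fun x => decide (x ≠ a))).map φ) with ht'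
  have hsub : ∀ y ∈ t', ∃ x ∈ t, x ≠ a ∧ φ x = y := fun y hy => by
    obtain ⟨x, hx, rfl⟩ := List.mem_map.1 hy
    obtain ⟨h1, h2⟩ := List.mem_filter.1 hx
    exact ⟨x, h1, of_decide_eq_true h2, rfl⟩
  have hlink : ∀ y ∈ t', y ∈ link D d := fun y hy => by
    obtain ⟨x, hx, hne, rfl⟩ := hsub y hy
    exact hmem x (hl.mem x (List.mem_cons_of_mem a hx))
      (hl.comm a List.mem_cons_self x (List.mem_cons_of_mem a hx)) hne
  have hcom : Com D t' := (hl.sub fun x hx =>
    List.mem_cons_of_mem a (List.mem_filter.1 hx).1).conj S.cls g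
  have hbl := hmem b hb (hcb a List.mem_cons_self) fun h => hnb (h ▸ List.mem_cons_self)
  obtain ⟨q, hq, hqA, hqb⟩ := h (t'.map (tot D d)) (com_map S hlink hcom)
    (by
      rw [List.length_map, ht', List.length_map]
      have := List.length_filter_le (fun x => decide (x ≠ a)) t
      simp only [List.length_cons] at hlen
      omega)
    (tot D d (φ b)) (by rw [tot_eq hbl]; exact toImg_mem _)
    (fun r hr => by
      obtain ⟨y, hy, rfl⟩ := List.mem_map.1 hr
      obtain ⟨x, hx, -, rfl⟩ := hsub y hy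
      exact (commute_tot_iff S (hlink _ hy) hbl).2
        ((commute_conj_iff' g x b).2 (hcb x (List.mem_cons_of_mem a hx))))
    (fun hr => by
      obtain ⟨y, hy, he⟩ := List.mem_map.1 hr
      obtain ⟨x, hx, -, rfl⟩ := hsub y hy
      have hxb : x = b :=
        mul_left_cancel (mul_right_cancel (tot_inj S hd hpair (hlink _ hy) hbl he))
      exact hnb (hxb ▸ List.mem_cons_of_mem a hx))
  obtain ⟨w, hw, rfl⟩ := exists_toImg hq
  have back : ∀ x, g * (g⁻¹ * w * g⁻¹⁻¹) * g⁻¹ = w ∧ g * x * g⁻¹ = φ x := fun x =>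
    ⟨by group, rfl⟩
  refine ⟨g⁻¹ * w * g⁻¹⁻¹, CfsgLib.ThreeTransp.class_conj_mem S.cls g⁻¹ hw.1, fun x hx => ?_, ?_⟩
  · rw [← commute_conj_iff' g, (back x).1]
    by_cases hxa : x = a
    · subst hxa; rw [hg]; exact hw.2.2.symm
    · have hxt : φ x ∈ t' := List.mem_map_of_mem (List.mem_filter.2
        ⟨(List.mem_cons.1 hx).resolve_left hxa, decide_eq_true hxa⟩)
      refine (commute_tot_iff S hw (hlink _ hxt)).1 ?_
      have := hqA _ (List.mem_map_of_mem hxt)
      rwa [← tot_eq hw] at this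
  · intro hc
    rw [← commute_conj_iff' g, (back b).1] at hc
    have := (commute_tot_iff S hw hbl).2 hc
    rw [tot_eq hw] at this
    exact hqb this

theorem Trans.step {k : ℕ} (h : Trans (img D d) k) : Trans D (k + 1) := by
  intro l l' hl hnd hlen hl' hnd' hlen'
  have move : ∀ l : List G, Com D l → l.Nodup → l.length = k + 1 → ∃ (g : G) (t : List G),
      l.map (fun x => g * x * g⁻¹) = d :: t ∧ (∀ y ∈ t, y ∈ link D d) ∧ Com D t ∧ t.Nodup ∧
        t.length = k := by
    rintro (_ | ⟨a, t⟩) hl hnd hlen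
    · simp at hlen
    obtain ⟨g, hg⟩ := CfsgLib.ThreeTransp.class_conj S.cls (hl.mem a List.mem_cons_self) hd
    rw [List.nodup_cons] at hnd
    refine ⟨g, t.map fun x => g * x * g⁻¹, by rw [List.map_cons, hg], fun y hy => ?_,
      (hl.sub fun x hx => List.mem_cons_of_mem a hx).conj S.cls g,
      hnd.2.map fun x y h => mul_left_cancel (mul_right_cancel h), by simpa using hlen⟩
    obtain ⟨x, hx, rfl⟩ := List.mem_map.1 hy
    have := link_conj_mem S.cls g (d := a) (u := x) ⟨hl.mem x (List.mem_cons_of_mem a hx),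
      fun e => hnd.1 (e ▸ hx), hl.comm a List.mem_cons_self x (List.mem_cons_of_mem a hx)⟩
    rwa [hg] at this
  obtain ⟨g₁, t₁, e₁, hl₁, hc₁, hn₁, hk₁⟩ := move l hl hnd hlen
  obtain ⟨g₂, t₂, e₂, hl₂, hc₂, hn₂, hk₂⟩ := move l' hl' hnd' hlen'
  have ndm : ∀ t : List G, (∀ y ∈ t, y ∈ link D d) → t.Nodup → (t.map (tot D d)).Nodup := fun t ht hn =>
    hn.map_on fun x hx y hy h => tot_inj S hd hpair (ht x hx) (ht y hy) h
  obtain ⟨q, hq⟩ := h _ _ (com_map S hl₁ hc₁) (ndm t₁ hl₁ hn₁) (by simpa using hk₁)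
    (com_map S hl₂ hc₂) (ndm t₂ hl₂ hn₂) (by simpa using hk₂)
  obtain ⟨κ, rfl⟩ := QuotientGroup.mk_surjective q
  obtain ⟨c, hc⟩ := κ
  have hkd : c * d * c⁻¹ = d := conj_self_of_commute (mem_centralizer_singleton_iff.1
    (CfsgLib.FischerUnique.closure_link_le_centralizer hc))
  have hkl : ∀ y ∈ link D d, c * y * c⁻¹ ∈ link D d := fun y hy => by
    have := link_conj_mem S.cls c hy
    rwa [hkd] at this
  have hkt : t₁.map (fun y => c * y * c⁻¹) = t₂ := by
    have hmap : (t₁.map (fun y => c * y * c⁻¹)).map (tot D d) = t₂.map (tot D d) := by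
      rw [← hq, List.map_map, List.map_map]
      refine List.map_congr_left fun y hy => ?_
      simp only [Function.comp_apply]
      rw [tot_eq (hkl y (hl₁ y hy)), tot_eq (hl₁ y hy)]
      rfl
    have hinj : ∀ u v : List G, (∀ y ∈ u, y ∈ link D d) → (∀ y ∈ v, y ∈ link D d) →
        u.map (tot D d) = v.map (tot D d) → u = v := by
      intro u
      induction u with
      | nil => intro v _ _ h; simpa [eq_comm] using h
      | cons a u ih =>
        rintro (_ | ⟨b, v⟩) hu hv h
        · simp at h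
        · rw [List.map_cons, List.map_cons, List.cons.injEq] at h
          rw [tot_inj S hd hpair (hu a List.mem_cons_self) (hv b List.mem_cons_self) h.1,
            ih v (fun y hy => hu y (List.mem_cons_of_mem _ hy))
              (fun y hy => hv y (List.mem_cons_of_mem _ hy)) h.2]
    refine hinj _ _ (fun y hy => ?_) hl₂ hmap
    obtain ⟨x, hx, rfl⟩ := List.mem_map.1 hy
    exact hkl x (hl₁ x hx)
  refine ⟨g₂⁻¹ * c * g₁, ?_⟩
  have h2 : l' = (d :: t₂).map (fun x => g₂⁻¹ * x * g₂) := by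
    rw [← e₂, List.map_map]
    conv_lhs => rw [← List.map_id l']
    exact List.map_congr_left fun x _ => by simp only [id_eq, Function.comp_apply]; group
  rw [h2, ← hkt, show d :: t₁.map (fun y => c * y * c⁻¹) = (d :: t₁).map (fun y => c * y * c⁻¹) by
    rw [List.map_cons, hkd], ← e₁, List.map_map, List.map_map]
  exact List.map_congr_left fun x _ => by simp only [Function.comp_apply]; group

/-- The involutions one level up. -/
theorem upTo_step {n : ℕ} (hl : HasLines D) (hfix : ∀ f, CfsgLib.FischerType.Sym D f → ∃ d' ∈ D, f d' = d')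
    (hC : centralizer {d} = closure (link D d))
    (hq : ∀ q : Quot D d, q * q = 1 → UpTo (img D d) n q) (x : G) (hx : x * x = 1) :
    UpTo D (n + 1) x := by
  have hxi : x⁻¹ = x := inv_eq_of_mul_eq_one_right hx
  have hsym : CfsgLib.FischerType.Sym D (fun y => x * y * x) := by
    refine ⟨fun a ha => ?_, fun a _ => ?_, fun a _ b _ => ?_⟩
    · have := CfsgLib.ThreeTransp.class_conj_mem S.cls x ha
      rwa [hxi] at this
    · show x * (x * a * x) * x = a
      rw [← mul_assoc, ← mul_assoc, hx, one_mul, mul_assoc, hx, mul_one]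
    · show x * (a * b * a) * x = x * a * x * (x * b * x) * (x * a * x)
      rw [show x * a * x * (x * b * x) * (x * a * x) = x * a * (x * x) * b * (x * x) * a * x by
        simp only [mul_assoc], hx]
      simp only [mul_assoc, one_mul]
  obtain ⟨d', hd', hfd⟩ := hfix _ hsym
  obtain ⟨g, hg⟩ := CfsgLib.ThreeTransp.class_conj S.cls hd' hd
  suffices h : UpTo D (n + 1) (g * x * g⁻¹) by
    have := h.conj S.cls g⁻¹
    rwa [show g⁻¹ * (g * x * g⁻¹) * g⁻¹⁻¹ = x by group] at this
  have hcd : Commute x d' := by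
    show x * d' = d' * x
    calc x * d' = x * d' * (x * x) := by rw [hx, mul_one]
      _ = x * d' * x * x := by simp only [mul_assoc]
      _ = d' * x := by rw [show x * d' * x = d' from hfd]
  have hy : g * x * g⁻¹ ∈ closure (link D d) := by
    rw [← hC]
    refine mem_centralizer_singleton_iff.2 ?_
    rw [← hg]
    exact (commute_conj_iff' g x d').2 hcd
  set y : ↥(closure (link D d)) := ⟨g * x * g⁻¹, hy⟩ with hyd
  obtain ⟨L, hL, hlen, hprod⟩ := hq (QuotientGroup.mk y) (by
    rw [← QuotientGroup.mk_mul, show y * y = 1 from Subtype.ext (by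
      show g * x * g⁻¹ * (g * x * g⁻¹) = 1
      rw [show g * x * g⁻¹ * (g * x * g⁻¹) = g * (x * x) * g⁻¹ by group, hx]; group)]
    rfl)
  obtain ⟨ws, hws, hcom, rfl⟩ := exists_lift_list S L hL
  obtain ⟨P, hP, hPq⟩ := exists_prod_lift S ws hws
  have hz := QuotientGroup.eq.1 (hPq.trans hprod)
  obtain ⟨u, hu, -⟩ := id hpair
  rw [List.length_map] at hlen
  have e : (y : G) = (P : G) * ((P⁻¹ * y : ↥(closure (link D d))) : G) := by simp
  rcases CfsgLib.FischerUnique.center_link_le S hl hd hu hz with h1 | h1 <;> rw [h1] at e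
  · exact ⟨ws, hcom, by omega, by rw [← hP, ← mul_one (P : G)]; exact e.symm⟩
  · refine ⟨d :: ws, hcom.cons hd fun w hw => (hws w hw).2.2, by simpa using hlen, ?_⟩
    rw [List.prod_cons, ← hP, show d * (P : G) = (P : G) * d from (mem_centralizer_singleton_iff.1
      (CfsgLib.FischerUnique.closure_link_le_centralizer P.2)).symm]
    exact e.symm

end CfsgLib.FischerInvol
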