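import Cfsg.Agent.Lib.FischerInvol.Vec
import Cfsg.Agent.Lib.FischerType.Unique

set_option autoImplicit false

/-! The link of a member in type M(22) as the transvections of the unitary space. -/

namespace CfsgLib.FischerInvol

open Subgroup CfsgLib.Classical.Herm HermSpace CfsgLib.UnitaryTransv
open CfsgLib.FischerType
open CfsgLib.FischerInvol.U6
open CfsgLib.FischerType.U6 (ptv proj tvSet)
open CfsgLib.ThreeTrans (link mul_self inv_eq braid commute_conj_iff' conj_self_of_commute)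

variable {G : Type*} [Group G] {D : Set G} {d : G} {F : Type} [Field F] [Fintype F]

/-- The group of the link of `d` modulo centre as the unitary group. -/
structure Model (D : Set G) (d : G) (F : Type) [Field F] [Fintype F] where
  S : Setting D
  mem : d ∈ D
  pair : ∃ u ∈ link D d, ∃ v ∈ link D d, ¬ Commute u v
  hF : Fintype.card F = 2 ^ 2
  e : Quot D d ≃* Cfsg.PSU 6 F 2

local notation "𝕍" => (Fin 6 → F)

/-- A vector representing a member of the link. -/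
def Model.Rep (M : Model D d F) (w : G) (v : 𝕍) : Prop :=
  ∃ (hw : w ∈ link D d) (hv : (stdHerm M.hF 6).h v v = 0),
    v ≠ 0 ∧ M.e (toImg D d hw) = ptv M.hF v hv

variable [Finite G]

/-- Models exist at every member in type M(22). -/
theorem exists_model (S : Setting D) (h : Cfsg.IsOfTypeM22 G D) {d₀ : G} (hd₀ : d₀ ∈ D)
    (h3 : Cfsg.pCore 3 ↥(closure (link D d₀)) ≤ center ↥(closure (link D d₀)))
    (h2 : Cfsg.pCore 2 ↥(closure (link D d₀)) ≤ center ↥(closure (link D d₀))) {d : G} (hd : d ∈ D) :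
    ∃ (F : Type) (_ : Field F) (_ : Fintype F), Nonempty (Model D d F) := by
  obtain ⟨a, ha, hpair, -, F, i1, i2, hF, ⟨e₀⟩⟩ := S.quotSetting_of_typeM22 h hd₀ h3 h2
  obtain ⟨g, hg⟩ := CfsgLib.ThreeTransp.class_conj S.cls ha hd
  have himg : (MulAut.conj g).toMonoidHom '' link D a = link D d := by
    rw [← hg, ← CfsgLib.ThreeTrans.link_conj S.cls]; rfl
  have hmap : (closure (link D a)).map (MulAut.conj g).toMonoidHom = closure (link D d) := by
    rw [MonoidHom.map_closure, himg]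
  let e := ((closure (link D a)).equivMapOfInjective (MulAut.conj g).toMonoidHom
    (MulAut.conj g).injective).trans (MulEquiv.subgroupCongr hmap)
  have hcen : (center ↥(closure (link D a))).map e.toMonoidHom = center ↥(closure (link D d)) := by
    refine le_antisymm ?_ fun x hx => ?_
    · rintro _ ⟨x, hx, rfl⟩
      refine mem_center_iff.2 fun y => ?_
      obtain ⟨y, rfl⟩ := e.surjective y
      show e y * e x = e x * e y
      rw [← map_mul, ← map_mul, mem_center_iff.1 hx y]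
    · refine ⟨e.symm x, mem_center_iff.2 fun y => e.injective ?_, e.apply_symm_apply x⟩
      rw [map_mul, map_mul, e.apply_symm_apply, mem_center_iff.1 hx (e y)]
  let eq' : Quot D a ≃* Quot D d := QuotientGroup.congr _ _ e hcen
  obtain ⟨u, hu, v, hv, huv⟩ := hpair
  refine ⟨F, i1, i2, ⟨⟨S, hd, ⟨g * u * g⁻¹, ?_, g * v * g⁻¹, ?_, ?_⟩, hF.trans (by norm_num),
    eq'.symm.trans e₀⟩⟩⟩
  · rw [← hg]; exact link_conj_mem S.cls g hu
  · rw [← hg]; exact link_conj_mem S.cls g hv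
  · exact fun h => huv ((commute_conj_iff' g u v).1 h)

variable (M : Model D d F)

namespace Model

local notation "𝓗" => stdHerm M.hF 6

include M in
theorem noCentral : NoCentral D d := M.S.noCentral M.mem M.pair

theorem image_eq : M.e '' img D d = tvSet M.hF (n := 6) :=
  CfsgLib.FischerType.U6.eq_tv_class M.hF (class_image M.e (M.S.imgClass M.mem M.pair))

theorem exists_vec {w : G} (hw : w ∈ link D d) : ∃ v, M.Rep w v := by
  obtain ⟨v, hv, hv0, he⟩ :
      M.e (toImg D d hw) ∈ tvSet M.hF (n := 6) := M.image_eq ▸ ⟨_, toImg_mem hw, rfl⟩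
  exact ⟨v, hw, hv, hv0, he.symm⟩

theorem exists_member {v : 𝕍} (hv : (𝓗).h v v = 0) (hv0 : v ≠ 0) : ∃ w, M.Rep w v := by
  have h : ptv M.hF v hv ∈ M.e '' img D d := M.image_eq ▸ ⟨v, hv, hv0, rfl⟩
  obtain ⟨q, hq, he⟩ := h
  obtain ⟨w, hw, rfl⟩ := exists_toImg hq
  exact ⟨w, hw, hv, hv0, he⟩

omit [Finite G] in
theorem Rep.mem {M : Model D d F} {w : G} {v : 𝕍} (h : M.Rep w v) : w ∈ link D d := h.1

omit [Finite G] in
theorem Rep.isotropic {M : Model D d F} {w : G} {v : 𝕍} (h : M.Rep w v) :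
    (stdHerm M.hF 6).h v v = 0 := h.2.1

omit [Finite G] in
theorem Rep.ne_zero {M : Model D d F} {w : G} {v : 𝕍} (h : M.Rep w v) : v ≠ 0 := h.2.2.1

omit [Finite G] in
theorem commute_iff {w u : G} {v x : 𝕍} (h : M.Rep w v) (h' : M.Rep u x) :
    Commute w u ↔ (𝓗).h v x = 0 := by
  obtain ⟨hw, hv, hv0, e1⟩ := h
  obtain ⟨hu, hx, hx0, e2⟩ := h'
  constructor
  · intro hc
    have h3 := (commute_toImg hu hw hc.symm).map M.e
    rw [e1, e2] at h3
    exact CfsgLib.FischerType.U6.orth_of_commute_ptv M.hF hx hv hv0 h3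
  · intro ho
    have h3 := CfsgLib.FischerType.U6.commute_ptv M.hF hx hv ho
    rw [← e1, ← e2] at h3
    exact (commute_of_toImg M.S.cls.1 hu hw ((commute_map_iff M.e.injective).1 h3)).symm

theorem eq_of_smul {w u : G} {v x : 𝕍} (h : M.Rep w v) (h' : M.Rep u x) {t : F}
    (e : x = t • v) : w = u := by
  obtain ⟨hw, hv, hv0, e1⟩ := h
  obtain ⟨hu, hx, hx0, e2⟩ := h'
  have ht : t ≠ 0 := fun h => hx0 (by rw [e, h, zero_smul])
  refine eq_of_toImg M.S.cls.1 M.noCentral hw hu (M.e.injective ?_)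
  rw [e1, e2]
  exact (congrArg (proj M.hF) (Subtype.ext (tv_smul M.hF ht hv hx e))).symm

omit [Finite G] in
theorem exists_smul {w : G} {v x : 𝕍} (h : M.Rep w v) (h' : M.Rep w x) : ∃ t : F, x = t • v := by
  by_contra! hno
  obtain ⟨hw, hv, hv0, e1⟩ := h
  obtain ⟨hu, hx, hx0, e2⟩ := h'
  exact CfsgLib.FischerType.U6.ne_of_independent M.hF hx hv hv0 (fun c hc => hno c hc.symm)
    (e2.symm.trans e1)

omit [Finite G] in
theorem Rep.smul {M : Model D d F} {w : G} {v : 𝕍} (h : M.Rep w v) {t : F} (ht : t ≠ 0) :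
    M.Rep w (t • v) := by
  obtain ⟨hw, hv, hv0, e1⟩ := h
  have hv' : (stdHerm M.hF 6).h (t • v) (t • v) = 0 := by
    rw [(stdHerm M.hF 6).smul_left, (stdHerm M.hF 6).smul_right, hv, mul_zero, mul_zero]
  exact ⟨hw, hv', smul_ne_zero ht hv0,
    e1.trans (congrArg (proj M.hF) (Subtype.ext (tv_smul M.hF ht hv hv' rfl).symm))⟩

theorem ne_of_indep {w u : G} {v x : 𝕍} (h : M.Rep w v) (h' : M.Rep u x)
    (hi : ∀ c : F, x ≠ c • v) : w ≠ u := fun e => by
  subst e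
  obtain ⟨t, ht⟩ := M.exists_smul h h'
  exact hi t ht

omit [Finite G] in
theorem center_le_centralizer {k : G} (hk : k ∈ closure (link D d)) : Commute k d := by
  have hle : closure (link D d) ≤ centralizer {d} :=
    (closure_le _).2 fun x hx => mem_centralizer_singleton_iff.2 hx.2.2.eq.symm
  exact mem_centralizer_singleton_iff.1 (hle hk)

/-- Conjugation by an element of the link group acts as an isometry of determinant one. -/
theorem rep_conj {k : ↥(closure (link D d))} {g : (detHom 𝓗).ker}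
    (he : M.e (QuotientGroup.mk k) = proj M.hF g) {w : G} {v : 𝕍} (h : M.Rep w v) :
    M.Rep ((k : G) * w * (k : G)⁻¹) (g.1.1 v) := by
  obtain ⟨hw, hv, hv0, e1⟩ := h
  have hw' : (k : G) * w * (k : G)⁻¹ ∈ link D d := by
    have := link_conj_mem M.S.cls (k : G) hw
    rwa [conj_self_of_commute (center_le_centralizer k.2)] at this
  refine ⟨hw', by rw [unit_h]; exact hv, unit_ne_zero _ hv0, ?_⟩
  show M.e (QuotientGroup.mk (k * ⟨w, subset_closure hw⟩ * k⁻¹)) = _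
  rw [QuotientGroup.mk_mul, QuotientGroup.mk_mul, QuotientGroup.mk_inv, map_mul, map_mul, map_inv,
    he, show M.e (QuotientGroup.mk ⟨w, subset_closure hw⟩) = _ from e1,
    CfsgLib.FischerType.U6.ptv, ← map_inv, ← map_mul, ← map_mul]
  exact congrArg _ (Subtype.ext (by simpa using tv_conj M.hF g.1 v hv))

theorem exists_act {k : G} (hk : k ∈ closure (link D d)) :
    ∃ g : (detHom 𝓗).ker, ∀ w v, M.Rep w v → M.Rep (k * w * k⁻¹) (g.1.1 v) := by
  obtain ⟨g, hg⟩ := CfsgLib.FischerType.U6.proj_surjective M.hF (M.e (QuotientGroup.mk ⟨k, hk⟩))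
  exact ⟨g, fun w v h => M.rep_conj (k := ⟨k, hk⟩) hg.symm h⟩

theorem exists_lift (g : Unit' 𝓗) (hg : detHom 𝓗 g = 1) :
    ∃ k ∈ closure (link D d), ∀ w v, M.Rep w v → M.Rep (k * w * k⁻¹) (g.1 v) := by
  obtain ⟨k, hk⟩ := QuotientGroup.mk_surjective (M.e.symm (proj M.hF ⟨g, hg⟩))
  refine ⟨k, k.2, fun w v h => ?_⟩
  exact M.rep_conj (g := ⟨g, hg⟩) (by rw [hk, MulEquiv.apply_symm_apply]) h

/-- Conjugation by a member of the link is a transvection. -/
theorem rep_member {u w : G} {x v : 𝕍} (hu : M.Rep u x) (h : M.Rep w v) :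
    M.Rep (u * w * u) (v + (𝓗).h v x • x) := by
  obtain ⟨hul, hx, hx0, e⟩ := hu
  have h1 := M.rep_conj (k := ⟨u, subset_closure hul⟩) (g := ⟨tv M.hF x hx, det_tv M.hF x hx⟩) e h
  simpa [inv_eq M.S.cls.1 hul.1, tv_apply] using h1

/-- Three times the number of members is the number of their vectors. -/
theorem ncard_mul_three {Q : 𝕍 → Prop}
    (hQ : ∀ v, Q v → v ≠ 0 ∧ (𝓗).h v v = 0 ∧ ∀ t : F, t ≠ 0 → Q (t • v)) :
    {w | ∃ v, Q v ∧ M.Rep w v}.ncard * 3 = Nat.card {v // Q v} := by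
  classical
  choose f hf using fun v : {v // Q v} => M.exists_member (hQ v.1 v.2).2.1 (hQ v.1 v.2).1
  let f' : {v // Q v} → {w | ∃ v, Q v ∧ M.Rep w v} := fun v => ⟨f v, v.1, v.2, hf v⟩
  have hfib : ∀ w, Nat.card {v // f' v = w} = 3 := by
    rintro ⟨w, v₀, hv₀, hw⟩
    let mk : Fˣ → {v // f' v = ⟨w, v₀, hv₀, hw⟩} := fun t =>
      ⟨⟨(t : F) • v₀, (hQ v₀ hv₀).2.2 t t.ne_zero⟩,
        Subtype.ext (M.eq_of_smul (hw.smul t.ne_zero) (hf ⟨_, _⟩) (t := 1) (one_smul F _).symm).symm⟩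
    have hmk : Function.Bijective mk := by
      refine ⟨fun a b h => Units.ext (smul_left_injective F hw.ne_zero
        (congrArg (fun v => (v.1.1 : 𝕍)) h)), ?_⟩
      rintro ⟨⟨v, hv⟩, he⟩
      have he' : f ⟨v, hv⟩ = w := congrArg Subtype.val he
      have h1 := hf ⟨v, hv⟩
      rw [he'] at h1
      obtain ⟨t, ht⟩ := M.exists_smul hw h1
      exact ⟨Units.mk0 t fun h0 => (hQ v hv).1 (ht.trans (by rw [h0, zero_smul])),
        Subtype.ext (Subtype.ext ht.symm)⟩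
    rw [← Nat.card_eq_of_bijective mk hmk, Nat.card_eq_fintype_card, Fintype.card_units, M.hF]
    norm_num
  haveI : Finite {w | ∃ v, Q v ∧ M.Rep w v} := Subtype.finite
  haveI := Fintype.ofFinite {w | ∃ v, Q v ∧ M.Rep w v}
  rw [← Nat.card_coe_set_eq, ← Nat.card_congr (Equiv.sigmaFiberEquiv f'), Nat.card_sigma]
  simp only [hfib, Finset.sum_const, Finset.card_univ, smul_eq_mul, Nat.card_eq_fintype_card]

omit [Finite G] in
/-- Members joined by non-commuting ones are conjugate under the group they generate. -/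
theorem exists_conj_connected {S : Set G} (hsub : S ⊆ D)
    (hS : ∀ p ∈ S, ∀ q ∈ S, p = q ∨ ¬ Commute p q ∨ ∃ r ∈ S, ¬ Commute p r ∧ ¬ Commute r q)
    (hc : Cfsg.IsThreeTranspositionClass D) {p q : G} (hp : p ∈ S) (hq : q ∈ S) :
    ∃ k ∈ closure S, k * p * k⁻¹ = q := by
  have step : ∀ a ∈ S, ∀ b ∈ S, ¬ Commute a b → ∃ k ∈ closure S, k * a * k⁻¹ = b :=
    fun a ha b hb h => ⟨a * b, mul_mem (subset_closure ha) (subset_closure hb),
      CfsgLib.ThreeTrans.conj_pair hc.1 (hsub ha) (hsub hb) h⟩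
  rcases hS p hp q hq with h | h | ⟨r, hr, h1, h2⟩
  · exact ⟨1, one_mem _, by simpa using h⟩
  · exact step p hp q hq h
  · obtain ⟨k, hk, e⟩ := step p hp r hr h1
    obtain ⟨l, hl, e'⟩ := step r hr q hq h2
    exact ⟨l * k, mul_mem hl hk, by rw [← CfsgLib.ThreeTrans.conj_conj_eq, e, e']⟩

/-- A triple of the link off a line moves to the basic frame. -/
theorem normalise {b c p : G} {vb vc vp : 𝕍} (hb : M.Rep b vb) (hc : M.Rep c vc) (hp : M.Rep p vp)
    (hbc : Commute b c) (hbp : Commute b p) (hcp : Commute c p) (hne : b ≠ c)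
    (hind : ∀ α β : F, vp ≠ α • vb + β • vc) :
    ∃ k ∈ closure (link D d), M.Rep (k * b * k⁻¹) (P 1 0 0) ∧ M.Rep (k * c * k⁻¹) (P 0 1 0) ∧
      M.Rep (k * p * k⁻¹) (P 0 0 1) := by
  have hF := M.hF
  have hone : (1 : F) ≠ 0 := one_ne_zero
  obtain ⟨E₁, hE₁⟩ := M.exists_member (P_orth hF 1 0 0 1 0 0) (P_ne (Or.inl hone))
  obtain ⟨E₂, hE₂⟩ := M.exists_member (P_orth hF 0 1 0 0 1 0) (P_ne (Or.inr (Or.inl hone)))
  obtain ⟨E₃, hE₃⟩ := M.exists_member (P_orth hF 0 0 1 0 0 1) (P_ne (Or.inr (Or.inr hone)))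
  have hi12 : ∀ t : F, P (0 : F) 1 0 ≠ t • P 1 0 0 := fun t h => by
    rw [P_smul] at h
    simpa [P] using congrFun h 2
  -- first member
  obtain ⟨k₁, hk₁, e₁⟩ := exists_conj_connected (S := link D d) (fun x hx => hx.1) (fun x hx y hy => by
    by_cases hxy : Commute x y
    · obtain ⟨vx, hvx⟩ := M.exists_vec hx
      obtain ⟨vy, hvy⟩ := M.exists_vec hy
      obtain ⟨r, hr0, hr, h1, h2⟩ := exists_neither hF hvx.ne_zero hvy.ne_zero
      obtain ⟨w, hw⟩ := M.exists_member hr hr0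
      exact Or.inr (Or.inr ⟨w, hw.mem, fun h => h1 ((M.commute_iff hw hvx).1 h.symm),
        fun h => h2 ((M.commute_iff hw hvy).1 h)⟩)
    · exact Or.inr (Or.inl hxy)) M.S.cls hb.mem hE₁.mem
  -- second member
  set T := {w | w ∈ link D d ∧ w ≠ E₁ ∧ Commute E₁ w} with hT
  have hTsub : T ⊆ link D d := fun w hw => hw.1
  have hconn₂ : ∀ x ∈ T, ∀ y ∈ T,
      x = y ∨ ¬ Commute x y ∨ ∃ r ∈ T, ¬ Commute x r ∧ ¬ Commute r y := by
    intro x hx y hy
    by_cases hxy : Commute x y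
    · obtain ⟨vx, hvx⟩ := M.exists_vec hx.1
      obtain ⟨vy, hvy⟩ := M.exists_vec hy.1
      obtain ⟨r, hr0, hr, hre, h1, h2⟩ := exists_neither_perp hF hE₁.ne_zero (a := vx) (b := vy)
        (fun t h => hx.2.1 (M.eq_of_smul hE₁ hvx h.symm).symm)
        (fun t h => hy.2.1 (M.eq_of_smul hE₁ hvy h.symm).symm)
      obtain ⟨w, hw⟩ := M.exists_member hr hr0
      refine Or.inr (Or.inr ⟨w, ⟨hw.mem, ?_, ((M.commute_iff hw hE₁).2 hre).symm⟩,
        fun h => h1 ((M.commute_iff hw hvx).1 h.symm), fun h => h2 ((M.commute_iff hw hvy).1 h)⟩)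
      intro e
      exact h1 ((M.commute_iff hw hvx).1 (e ▸ hx.2.2))
    · exact Or.inr (Or.inl hxy)
  obtain ⟨g₁, hg₁⟩ := M.exists_act hk₁
  have hc₁ : k₁ * c * k₁⁻¹ ∈ T := ⟨(hg₁ c vc hc).mem,
    fun h => hne (mul_left_cancel (mul_right_cancel (e₁.trans h.symm))),
    e₁ ▸ (commute_conj_iff' k₁ b c).2 hbc⟩
  have hE₂T : E₂ ∈ T :=
    ⟨hE₂.mem, fun h => M.ne_of_indep hE₁ hE₂ hi12 h.symm,
      (M.commute_iff hE₁ hE₂).2 (P_orth hF _ _ _ _ _ _)⟩
  obtain ⟨k₂, hk₂, e₂⟩ := exists_conj_connected (fun x hx => (hTsub hx).1) hconn₂ M.S.cls hc₁ hE₂T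
  have hk₂E : Commute k₂ E₁ := by
    have hle : closure T ≤ centralizer {E₁} :=
      (closure_le _).2 fun x hx => mem_centralizer_singleton_iff.2 hx.2.2.eq.symm
    exact mem_centralizer_singleton_iff.1 (hle hk₂)
  have hk₂d : k₂ ∈ closure (link D d) := closure_mono hTsub hk₂
  set k₁₂ := k₂ * k₁ with hk12
  have hk₁₂ : k₁₂ ∈ closure (link D d) := mul_mem hk₂d hk₁
  have eb : k₁₂ * b * k₁₂⁻¹ = E₁ := by
    rw [hk12, ← CfsgLib.ThreeTrans.conj_conj_eq, e₁, conj_self_of_commute hk₂E]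
  have ec : k₁₂ * c * k₁₂⁻¹ = E₂ := by
    rw [hk12, ← CfsgLib.ThreeTrans.conj_conj_eq, e₂]
  -- third member
  set S₃ := {w | ∃ v, M.Rep w v ∧ OffLine v} with hS₃
  have hsub₃ : S₃ ⊆ link D d := fun w ⟨v, hv, _⟩ => hv.mem
  have hconn₃ : ∀ x ∈ S₃, ∀ y ∈ S₃,
      x = y ∨ ¬ Commute x y ∨ ∃ r ∈ S₃, ¬ Commute x r ∧ ¬ Commute r y := by
    rintro x ⟨vx, hvx, ox⟩ y ⟨vy, hvy, oy⟩
    by_cases hxy : Commute x y
    · obtain ⟨r, hor, hr, h1, h2⟩ := exists_neither_offLine hF ox oy hvx.isotropic hvy.isotropic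
        ((M.commute_iff hvx hvy).1 hxy)
      have hr0 : r ≠ 0 := fun h => hor.2.2 (by rw [h]; rfl)
      obtain ⟨w, hw⟩ := M.exists_member hr hr0
      exact Or.inr (Or.inr ⟨w, ⟨r, hw, hor⟩, fun h => h1 ((M.commute_iff hw hvx).1 h.symm),
        fun h => h2 ((M.commute_iff hw hvy).1 h)⟩)
    · exact Or.inr (Or.inl hxy)
  have hp₃ : k₁₂ * p * k₁₂⁻¹ ∈ S₃ := by
    obtain ⟨g, hg⟩ := M.exists_act hk₁₂
    have r1 := hg b vb hb
    have r2 := hg c vc hc
    have r3 := hg p vp hp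
    rw [eb] at r1
    rw [ec] at r2
    obtain ⟨t₁, ht₁⟩ := M.exists_smul r1 hE₁
    obtain ⟨t₂, ht₂⟩ := M.exists_smul r2 hE₂
    refine ⟨_, r3, (offLine_iff hF r3.isotropic).2 ⟨?_, ?_, fun a b' h => ?_⟩⟩
    · exact (M.commute_iff r3 hE₁).1 (eb ▸ (commute_conj_iff' k₁₂ p b).2 hbp.symm)
    · exact (M.commute_iff r3 hE₂).1 (ec ▸ (commute_conj_iff' k₁₂ p c).2 hcp.symm)
    · refine hind (a * t₁) (b' * t₂) (g.1.1.injective ?_)
      rw [h, map_add, map_smul, map_smul, mul_smul, mul_smul, ← ht₁, ← ht₂, P_smul, P_smul, P_add]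
      simp
  have hE₃S : E₃ ∈ S₃ := ⟨_, hE₃, by simp [P], by simp [P], by simp [P]⟩
  obtain ⟨k₃, hk₃, e₃⟩ := exists_conj_connected (fun x hx => (hsub₃ hx).1) hconn₃ M.S.cls hp₃ hE₃S
  have hfix : ∀ {E : G} {a b' : F}, M.Rep E (P a b' 0) → Commute k₃ E := by
    intro E a b' hE
    have hle : closure S₃ ≤ centralizer {E} := by
      refine (closure_le _).2 ?_
      rintro x ⟨v, hv, o1, o2, -⟩
      refine mem_centralizer_singleton_iff.2 ((M.commute_iff hE hv).2 ?_).eq.symm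
      refine (stdHerm M.hF 6).h_comm_zero ?_
      rw [h_P]
      simp [o1, o2]
    exact mem_centralizer_singleton_iff.1 (hle hk₃)
  refine ⟨k₃ * k₁₂, mul_mem (closure_mono hsub₃ hk₃) hk₁₂, ?_, ?_, ?_⟩
  · rw [← CfsgLib.ThreeTrans.conj_conj_eq, eb, conj_self_of_commute (hfix hE₁)]; exact hE₁
  · rw [← CfsgLib.ThreeTrans.conj_conj_eq, ec, conj_self_of_commute (hfix hE₂)]; exact hE₂
  · rw [← CfsgLib.ThreeTrans.conj_conj_eq, e₃]; exact hE₃

/-- The radical of a commuting pair of the link consists of the other points of its line. -/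
theorem mem_radical_iff {b c x : G} {vb vc : 𝕍} (hb : M.Rep b vb) (hc : M.Rep c vc) (hne : b ≠ c)
    (hbc : Commute b c) :
    x ∈ radical D d b c ↔
      x ≠ b ∧ x ≠ c ∧ ∃ vx, M.Rep x vx ∧ ∃ α β : F, vx = α • vb + β • vc := by
  have hind : ∀ t : F, t • vc ≠ vb := fun t h => hne (M.eq_of_smul hc hb h.symm).symm
  constructor
  · rintro ⟨⟨⟨hxd, hxb⟩, hxc⟩, hall⟩
    obtain ⟨vx, hvx⟩ := M.exists_vec hxd
    refine ⟨hxb.2.1, hxc.2.1, vx, hvx,
      CfsgLib.FischerType.U6.exists_comb_line M.hF hc.ne_zero hind fun k hk0 hk hkb hkc => ?_⟩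
    obtain ⟨z, hz⟩ := M.exists_member hk hk0
    refine (M.commute_iff hvx hz).1 ?_
    by_cases hzb : z = b
    · rw [hzb]; exact hxb.2.2.symm
    by_cases hzc : z = c
    · rw [hzc]; exact hxc.2.2.symm
    exact hall z ⟨⟨hz.mem, hz.mem.1, hzb, ((M.commute_iff hz hb).2 hkb).symm⟩, hz.mem.1, hzc,
      ((M.commute_iff hz hc).2 hkc).symm⟩
  · rintro ⟨hxb, hxc, vx, hvx, α, β, hαβ⟩
    have hbc' := (M.commute_iff hb hc).1 hbc
    have horth : ∀ {z : G} {vz : 𝕍}, M.Rep z vz → Commute z b → Commute z c → Commute x z := by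
      intro z vz hz h1 h2
      refine ((M.commute_iff hz hvx).2 ?_).symm
      rw [hαβ, (stdHerm M.hF 6).add_right, (stdHerm M.hF 6).smul_right, (stdHerm M.hF 6).smul_right,
        (M.commute_iff hz hb).1 h1, (M.commute_iff hz hc).1 h2]
      simp
    refine ⟨⟨⟨hvx.mem, hvx.mem.1, hxb, (horth hb (Commute.refl b) hbc).symm⟩, hvx.mem.1, hxc,
      (horth hc hbc.symm (Commute.refl c)).symm⟩, ?_⟩
    rintro z ⟨⟨hzd, hzb⟩, hzc⟩
    obtain ⟨vz, hvz⟩ := M.exists_vec hzd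
    exact horth hvz hzb.2.2.symm hzc.2.2.symm

end Model

/-! ### The base -/

/-- The member and the members of the basic plane. -/
def Model.base (M : Model D d F) : Set G := insert d {w | ∃ a b c, M.Rep w (P a b c)}

namespace Model

theorem base_commute {x y : G} (hx : x ∈ M.base) (hy : y ∈ M.base) : Commute x y := by
  rcases hx with rfl | ⟨a, b, c, hx⟩ <;> rcases hy with rfl | ⟨a', b', c', hy⟩
  · exact Commute.refl _
  · exact hy.mem.2.2
  · exact hx.mem.2.2.symm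
  · exact (M.commute_iff hx hy).2 (P_orth M.hF _ _ _ _ _ _)

omit [Finite G] in
theorem base_subset {x : G} (hx : x ∈ M.base) : x ∈ D := by
  rcases hx with rfl | ⟨a, b, c, hx⟩
  exacts [M.mem, hx.mem.1]

/-- Members commuting with the member and the frame lie in the base. -/
theorem mem_base {x : G} (hx : x ∈ D) (hdx : Commute d x) {E₁ E₂ E₃ : G}
    (h1 : M.Rep E₁ (P 1 0 0)) (h2 : M.Rep E₂ (P 0 1 0)) (h3 : M.Rep E₃ (P 0 0 1))
    (c1 : Commute x E₁) (c2 : Commute x E₂) (c3 : Commute x E₃) : x ∈ M.base := by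
  by_cases hxd : x = d
  · exact Or.inl hxd
  obtain ⟨v, hv⟩ := M.exists_vec (w := x) ⟨hx, hxd, hdx⟩
  have e := eq_P_of_orth M.hF ((M.commute_iff hv h1).1 c1) ((M.commute_iff hv h2).1 c2)
    ((M.commute_iff hv h3).1 c3)
  exact Or.inr ⟨v 0, v 2, v 4, e ▸ hv⟩

theorem ncard_base : M.base.ncard = 22 := by
  classical
  have h := M.ncard_mul_three (Q := fun v => v ≠ 0 ∧ ∃ a b c, v = P a b c) (by
    rintro v ⟨hv0, a, b, c, rfl⟩
    exact ⟨hv0, P_orth M.hF _ _ _ _ _ _, fun t ht => ⟨smul_ne_zero ht hv0, _, _, _, P_smul t a b c⟩⟩)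
  have e : Nat.card {v : 𝕍 // v ≠ 0 ∧ ∃ a b c, v = P a b c} =
      Nat.card {p : F × F × F // p ≠ 0} := by
    refine (Nat.card_eq_of_bijective
      (fun p : {p : F × F × F // p ≠ 0} =>
        (⟨P p.1.1 p.1.2.1 p.1.2.2, fun h0 => p.2 (by
            obtain ⟨h1, h2, h3⟩ := P_eq_zero.1 h0
            exact Prod.ext h1 (Prod.ext h2 h3)),
          _, _, _, rfl⟩ : {v : 𝕍 // v ≠ 0 ∧ ∃ a b c, v = P a b c}))
      ⟨fun p q h => ?_, fun v => ?_⟩).symm
    · have h' := congrArg Subtype.val h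
      exact Subtype.ext (Prod.ext (congrFun h' 0) (Prod.ext (congrFun h' 2) (congrFun h' 4)))
    · obtain ⟨hv0, a, b, c, hv⟩ := v.2
      refine ⟨⟨(a, b, c), fun h0 => hv0 ?_⟩, Subtype.ext hv.symm⟩
      simp only [Prod.mk_eq_zero] at h0
      rw [hv, P_eq_zero]
      exact h0
  rw [e, Nat.card_eq_fintype_card, Fintype.card_subtype_compl, Fintype.card_prod, Fintype.card_prod,
    M.hF] at h
  simp only [Fintype.card_unique] at h
  have hset : {w | ∃ a b c, M.Rep w (P a b c)} =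
      {w | ∃ v, (v ≠ 0 ∧ ∃ a b c, v = P a b c) ∧ M.Rep w v} := by
    ext w
    constructor
    · rintro ⟨a, b, c, hw⟩
      exact ⟨_, ⟨hw.ne_zero, a, b, c, rfl⟩, hw⟩
    · rintro ⟨v, ⟨-, a, b, c, rfl⟩, hw⟩
      exact ⟨a, b, c, hw⟩
  have hd : d ∉ {w | ∃ a b c, M.Rep w (P a b c)} := by
    rintro ⟨a, b, c, hw⟩
    exact hw.mem.2.1 rfl
  rw [Model.base, Set.ncard_insert_of_notMem hd, hset]
  norm_num [-ne_eq] at h
  omega

end Model

end CfsgLib.FischerInvol
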