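import Cfsg.Agent.Lib.FischerType.SymStep

set_option autoImplicit false

/-! The centralizer of a member of a class of 3-transpositions is generated by the members commuting
with it and by its elements of order three. -/

namespace CfsgLib.FischerInvol

open Subgroup
open CfsgLib.FischerType
open CfsgLib.ThreeTrans (link com mul_self inv_eq cube_eq_one braid conj_self_of_commute)

variable {G : Type*} [Group G] {D : Set G}

/-- The members commuting with `d` together with the cubic roots of one commuting with it. -/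
def loops (D : Set G) (d : G) : Subgroup G :=
  closure (com D d ∪ {g | g ^ 3 = 1 ∧ Commute g d})

/-- Two elements whose cubes and the cubes of two of their products are one. -/
theorem commute_conj_of_cubes {p q : G} (hq : q ^ 3 = 1) (h1 : (q * p) ^ 3 = 1)
    (h2 : (q⁻¹ * p) ^ 3 = 1) : Commute p (q * p * q⁻¹) := by
  have hq2 : q⁻¹ * q⁻¹ = q := by
    rw [← mul_inv_rev]
    exact inv_eq_of_mul_eq_one_right (by rw [← hq, pow_succ, pow_two])
  have e1 : p * q * p = q⁻¹ * p⁻¹ * q⁻¹ := by
    have h := h1
    rw [pow_succ, pow_two] at h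
    have h' : q * (p * q * p) * (q * p) = 1 := by rw [← h]; group
    calc p * q * p = q⁻¹ * (q * (p * q * p) * (q * p)) * (q * p)⁻¹ := by group
      _ = _ := by rw [h']; group
  have e2 : p * q⁻¹ * p = q * p⁻¹ * q := by
    have h := h2
    rw [pow_succ, pow_two] at h
    have h' : q⁻¹ * (p * q⁻¹ * p) * (q⁻¹ * p) = 1 := by rw [← h]; group
    calc p * q⁻¹ * p = q * (q⁻¹ * (p * q⁻¹ * p) * (q⁻¹ * p)) * (q⁻¹ * p)⁻¹ := by group
      _ = _ := by rw [h']; group
  show p * (q * p * q⁻¹) = q * p * q⁻¹ * p
  calc p * (q * p * q⁻¹) = p * q * p * q⁻¹ := by group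
    _ = q⁻¹ * p⁻¹ * (q⁻¹ * q⁻¹) := by rw [e1]; group
    _ = q⁻¹ * p⁻¹ * q := by rw [hq2]
    _ = q * q * p⁻¹ * q := by rw [show q⁻¹ = q * q by
            exact inv_eq_of_mul_eq_one_right (by rw [← hq, pow_succ', pow_two])]
    _ = q * (q * p⁻¹ * q) := by simp only [mul_assoc]
    _ = q * (p * q⁻¹ * p) := by rw [e2]
    _ = _ := by group

variable (hc : Cfsg.IsThreeTranspositionClass D)

include hc

theorem sq_cancel {a : G} (ha : a ∈ D) (x : G) : a * (a * x) = x := by
  rw [← mul_assoc, mul_self hc.1 ha, one_mul]

theorem sq_cancel_left {a : G} (ha : a ∈ D) (x : G) : x * a * a = x := by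
  rw [mul_assoc, mul_self hc.1 ha, mul_one]

theorem conj_conj {a : G} (ha : a ∈ D) (x : G) : a * (a * x * a) * a = x := by
  calc a * (a * x * a) * a = (a * a) * x * (a * a) := by simp only [mul_assoc]
    _ = x := by rw [mul_self hc.1 ha, one_mul, mul_one]

/-- The third member of a non-commuting pair carries one to the other. -/
theorem third_conj {a b : G} (ha : a ∈ D) (hb : b ∈ D) (h : ¬ Commute a b) :
    (a * b * a) * a * (a * b * a) = b := by
  rw [sq_cancel_left hc ha]
  calc a * b * (a * b * a) = a * b * (b * a * b) := by rw [braid hc.1 ha hb h]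
    _ = a * ((b * b) * (a * b)) := by simp only [mul_assoc]
    _ = b := by rw [mul_self hc.1 hb, one_mul, sq_cancel hc ha]

theorem third_conj' {a b : G} (ha : a ∈ D) (hb : b ∈ D) (h : ¬ Commute a b) :
    (a * b * a) * b * (a * b * a) = a := by
  rw [braid hc.1 ha hb h]
  exact third_conj hc hb ha fun h' => h h'.symm

theorem commute_conj_inv {a x y : G} (ha : a ∈ D) :
    Commute (a * x * a) (a * y * a) ↔ Commute x y := by
  have h := CfsgLib.ThreeTrans.commute_conj_iff' a x y
  rwa [inv_eq hc.1 ha] at h

/-- The loop of a triangle is a member commuting with its base, or becomes a cubic root of one after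
multiplication by the base. -/
theorem triangle {d w y : G} (hd : d ∈ D) (hw : w ∈ D) (hy : y ∈ D) (hdw : ¬ Commute d w)
    (hdy : ¬ Commute d y) (hwy : ¬ Commute w y) :
    (d * y * d) * (w * y * w) * (d * w * d) ∈ com D d ∨
      (((d * y * d) * (w * y * w) * (d * w * d) * d) ^ 3 = 1 ∧
        Commute ((d * y * d) * (w * y * w) * (d * w * d) * d) d) := by
  have h2 := mul_self hc.1 hd
  set l := (d * y * d) * (w * y * w) * (d * w * d) with hl
  have hld : Commute l d := by
    have e1 : (d * w * d) * d * (d * w * d) = w := third_conj hc hd hw hdw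
    have e2 : (w * y * w) * w * (w * y * w) = y := third_conj hc hw hy hwy
    have e3 : (d * y * d) * y * (d * y * d) = d := third_conj' hc hd hy hdy
    have hi : l⁻¹ = (d * w * d) * (w * y * w) * (d * y * d) := by
      simp only [hl, mul_inv_rev, inv_eq hc.1 hd, inv_eq hc.1 hw, inv_eq hc.1 hy, mul_assoc]
    refine mul_inv_eq_iff_eq_mul.1 ?_
    rw [hi]
    calc l * d * ((d * w * d) * (w * y * w) * (d * y * d))
        = (d * y * d) * ((w * y * w) * ((d * w * d) * d * (d * w * d)) * (w * y * w)) * (d * y * d) := by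
          rw [hl]; simp only [mul_assoc]
      _ = d := by rw [e1, e2, e3]
  by_cases hv : Commute (d * y * d) w
  · left
    have h3 : d * y * d * y * d = y := by
      have h := cube_eq_one hc.1 hd hy hdy
      rw [pow_succ, pow_two] at h
      have h' : d * y * d * y * d * y = 1 := by rw [← h]; simp only [mul_assoc]
      rw [eq_inv_of_mul_eq_one_left h', inv_eq hc.1 hy]
    have e : l = w * y * w := by
      calc l = (d * y * d) * (w * y * w) * (w * d * w) := by rw [hl, braid hc.1 hd hw hdw]
        _ = (d * y * d * w) * (y * (w * w) * (d * w)) := by simp only [mul_assoc]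
        _ = (w * (d * y * d)) * (y * 1 * (d * w)) := by rw [hv.eq, mul_self hc.1 hw]
        _ = w * (d * y * d * y * d) * w := by rw [mul_one]; simp only [mul_assoc]
        _ = w * y * w := by rw [h3]
    exact ⟨e ▸ conj_mem hc hw hy, hld.symm⟩
  right
  refine ⟨?_, hld.mul_left (Commute.refl d)⟩
  have hp3 := cube_eq_one hc.1 hd hw hdw
  have hq3 := cube_eq_one hc.1 hd hy hdy
  have hqp3 : ((d * y) * (d * w)) ^ 3 = 1 := by
    have e : (d * y) * (d * w) = (d * y * d) * w := by simp only [mul_assoc]
    rw [e]
    exact cube_eq_one hc.1 (conj_mem hc hd hy) hw hv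
  have hqp3' : ((d * y)⁻¹ * (d * w)) ^ 3 = 1 := by
    have e : (d * y)⁻¹ * (d * w) = y * w := by
      rw [mul_inv_rev, inv_eq hc.1 hy, inv_eq hc.1 hd, mul_assoc, sq_cancel hc hd]
    rw [e]
    exact cube_eq_one hc.1 hy hw fun h => hwy h.symm
  have hcom := commute_conj_of_cubes hq3 hqp3 hqp3'
  have hp : (d * w) * (d * w) = (d * w)⁻¹ :=
    (inv_eq_of_mul_eq_one_right (by rw [← hp3, pow_succ', pow_two])).symm
  have e : l * d = (d * y) * (d * w) * (d * y)⁻¹ * (d * w)⁻¹ := by
    rw [mul_inv_rev, inv_eq hc.1 hy, inv_eq hc.1 hd, ← hp, hl]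
    calc (d * y * d) * (w * y * w) * (d * w * d) * d
        = d * y * d * (w * y * w) * (d * w) := by rw [mul_assoc, sq_cancel_left hc hd]
      _ = d * y * d * w * y * (1 * w) * (d * w) := by rw [one_mul]; simp only [mul_assoc]
      _ = d * y * d * w * y * ((d * d) * w) * (d * w) := by rw [h2]
      _ = _ := by simp only [mul_assoc]
  rw [e, hcom.symm.inv_right.mul_pow, conj_pow, hp3, inv_pow, hp3]
  simp

theorem mem_loops_of_cases {d l : G} (hd : d ∈ D)
    (h : l ∈ com D d ∨ ((l * d) ^ 3 = 1 ∧ Commute (l * d) d)) : l ∈ loops D d := by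
  have hdL : d ∈ loops D d := subset_closure (Or.inl ⟨hd, Commute.refl d⟩)
  rcases h with h | h
  · exact subset_closure (Or.inl h)
  · have h1 : l * d ∈ loops D d := subset_closure (Or.inr h)
    simpa [mul_assoc, mul_self hc.1 hd] using mul_mem h1 hdL

theorem triangle_mem {d w y : G} (hd : d ∈ D) (hw : w ∈ D) (hy : y ∈ D) (hdw : ¬ Commute d w)
    (hdy : ¬ Commute d y) (hwy : ¬ Commute w y) :
    (d * y * d) * (w * y * w) * (d * w * d) ∈ loops D d :=
  mem_loops_of_cases hc hd (triangle hc hd hw hy hdw hdy hwy)

omit hc in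
/-- The chosen way from `d` to a member commuting with it, through `w`. -/
def via (d u w : G) : G := (w * u * w) * (d * w * d)

theorem via_inv {d u w : G} (hd : d ∈ D) (hu : u ∈ D) (hw : w ∈ D) :
    (via d u w)⁻¹ = (d * w * d) * (w * u * w) := by
  rw [via, mul_inv_rev, inv_eq hc.1 (conj_mem hc hd hw), inv_eq hc.1 (conj_mem hc hw hu)]

/-- Two ways to a member commuting with `d` differ by a loop, when their middle members do not
commute. -/
theorem via_of_not_commute {d u w w' : G} (hd : d ∈ D) (hu : u ∈ D) (hw : w ∈ D) (hw' : w' ∈ D)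
    (hdw : ¬ Commute d w) (hdw' : ¬ Commute d w') (huw : ¬ Commute u w) (huw' : ¬ Commute u w')
    (hww : ¬ Commute w w') : (via d u w')⁻¹ * via d u w ∈ loops D d := by
  set a := d * w * d with ha
  have haD : a ∈ D := conj_mem hc hd hw
  have ha2 := mul_self hc.1 haD
  have hadw : a * w * a = d := third_conj' hc hd hw hdw
  set l := (w * w' * w) * (u * w' * u) * (w * u * w) with hl
  have h1 := triangle_mem hc hd hw hw' hdw hdw' hww
  have h2 : a * l * a ∈ loops D d := by
    refine mem_loops_of_cases hc hd ?_
    rcases triangle hc hw hu hw' (fun h => huw h.symm) hww huw' with h | ⟨h3, h4⟩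
    · refine Or.inl ⟨conj_mem hc haD h.1, ?_⟩
      rw [← hadw]
      exact (commute_conj_inv hc haD).2 h.2
    · have e : a * l * a * d = a * (l * w) * a := by
        rw [← hadw]
        calc a * l * a * (a * w * a) = a * l * ((a * a) * (w * a)) := by simp only [mul_assoc]
          _ = _ := by rw [ha2, one_mul]; simp only [mul_assoc]
      refine Or.inr ⟨?_, ?_⟩
      · rw [e]
        conv_lhs => rw [show a * (l * w) * a = a * (l * w) * a⁻¹ by rw [inv_eq hc.1 haD], conj_pow, h3]
        simp
      · rw [e]
        conv_rhs => rw [← hadw]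
        exact (commute_conj_inv hc haD).2 h4
  have e : (via d u w')⁻¹ * via d u w =
      ((d * w' * d) * (w * w' * w) * a) * (a * l * a) := by
    rw [via_inv hc hd hu hw', via, hl, braid hc.1 hu hw' huw']
    set m := w * w' * w with hm
    have hm2 : m * m = 1 := mul_self hc.1 (conj_mem hc hw hw')
    calc (d * w' * d) * (w' * u * w') * ((w * u * w) * a)
        = (d * w' * d) * 1 * (w' * u * w') * ((w * u * w) * a) := by rw [mul_one]
      _ = (d * w' * d) * (m * m) * (w' * u * w') * ((w * u * w) * a) := by rw [hm2]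
      _ = (d * w' * d) * (m * (1 * m)) * (w' * u * w') * ((w * u * w) * a) := by rw [one_mul]
      _ = (d * w' * d) * (m * ((a * a) * m)) * (w' * u * w') * ((w * u * w) * a) := by rw [ha2]
      _ = _ := by simp only [mul_assoc]
  rw [e]
  exact mul_mem h1 h2

/-- Any two ways to a member commuting with `d` differ by a loop. -/
theorem via_mem {d u w w' : G} (hd : d ∈ D) (hu : u ∈ D) (hdu : Commute d u) (hw : w ∈ D)
    (hw' : w' ∈ D) (hdw : ¬ Commute d w) (hdw' : ¬ Commute d w') (huw : ¬ Commute u w)
    (huw' : ¬ Commute u w') : (via d u w')⁻¹ * via d u w ∈ loops D d := by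
  by_cases hww : Commute w w'
  · -- through the third member of `w` and `u`
    set v := w * u * w with hv
    have hvD : v ∈ D := conj_mem hc hw hu
    have hcv : ∀ {x : G}, Commute x v ↔ Commute (w * x * w) u := by
      intro x
      rw [← commute_conj_inv hc hw, hv, conj_conj hc hw]
    have hdv : ¬ Commute d v := by
      rw [hcv]
      intro h
      rw [← braid hc.1 hd hw hdw] at h
      have h' := (commute_conj_inv hc hd (x := d * w * d) (y := u)).2 h
      rw [conj_conj hc hd, (conj_eq_self_iff hc.1 hd).2 hdu] at h'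
      exact huw h'.symm
    have huv : ¬ Commute u v := by
      rw [hcv, braid hc.1 hw hu fun h => huw h.symm]
      intro h
      have h' := (commute_conj_inv hc hu (x := u * w * u) (y := u)).2 h
      rw [conj_conj hc hu, (conj_eq_self_iff hc.1 hu).2 (Commute.refl u)] at h'
      exact huw h'.symm
    have hwv : ¬ Commute w v := by
      rw [hcv, (conj_eq_self_iff hc.1 hw).2 (Commute.refl w)]
      exact fun h => huw h.symm
    have hw'v : ¬ Commute w' v := by
      rw [hcv, (conj_eq_self_iff hc.1 hw).2 hww]
      exact fun h => huw' h.symm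
    have h1 := via_of_not_commute hc hd hu hvD hw' hdv hdw' huv huw' fun h => hw'v h.symm
    have h2 := via_of_not_commute hc hd hu hw hvD hdw hdv huw huv hwv
    have h := mul_mem h1 h2
    rwa [mul_assoc, mul_inv_cancel_left] at h
  · exact via_of_not_commute hc hd hu hw hw' hdw hdw' huw huw' hww

/-- The centralizer of a member consists of loops. -/
theorem mem_loops {d g : G} (hd : d ∈ D)
    (hex : ∀ u ∈ link D d, ∃ w ∈ D, ¬ Commute w d ∧ ¬ Commute w u) (hg : Commute g d) :
    g ∈ loops D d := by
  classical
  let r : G → G := fun y => if y = d then 1 else if ¬ Commute d y then d * y * d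
    else if h : y ∈ link D d then via d y (hex y h).choose else 1
  have hrd : r d = 1 := if_pos rfl
  have hrn : ∀ {y}, ¬ Commute d y → r y = d * y * d := fun {y} h => by
    have hne : y ≠ d := fun e => h (e ▸ Commute.refl _)
    simp [r, hne, h]
  have hrl : ∀ {y}, y ∈ link D d →
      ∃ w ∈ D, ¬ Commute d w ∧ ¬ Commute y w ∧ r y = via d y w := fun {y} h => by
    obtain ⟨hw, h1, h2⟩ := (hex y h).choose_spec
    exact ⟨_, hw, fun h' => h1 h'.symm, fun h' => h2 h'.symm, by simp [r, h.2.1, h.2.2, h]⟩
  have hconj : ∀ y ∈ D, r y * d * (r y)⁻¹ = y := by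
    intro y hy
    by_cases hyd : y = d
    · rw [hyd, hrd]; simp
    by_cases hdy : Commute d y
    · obtain ⟨w, hw, h1, h2, e⟩ := hrl (y := y) ⟨hy, hyd, hdy⟩
      rw [e, via_inv hc hd hy hw, via]
      calc (w * y * w) * (d * w * d) * d * ((d * w * d) * (w * y * w))
          = (w * y * w) * ((d * w * d) * d * (d * w * d)) * (w * y * w) := by simp only [mul_assoc]
        _ = y := by rw [third_conj hc hd hw h1, third_conj hc hw hy fun h => h2 h.symm]
    · rw [hrn hdy, inv_eq hc.1 (conj_mem hc hd hy)]
      exact third_conj hc hd hy hdy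
  have hmix : ∀ {y t}, y ∈ D → ¬ Commute d y → t ∈ link D d → ¬ Commute y t →
      (r t)⁻¹ * (y * t * y) * r y ∈ loops D d := by
    intro y t hy hdy ht hyt
    obtain ⟨w, hw, h1, h2, e⟩ := hrl ht
    rw [e, hrn hdy, mul_assoc]
    exact via_mem hc hd ht.1 ht.2.2 hy hw hdy h1 (fun h => hyt h.symm) h2
  have hedge : ∀ {y t}, y ∈ D → t ∈ D → ¬ Commute y t →
      (r t)⁻¹ * (y * t * y) * r y ∈ loops D d := by
    intro y t hy ht hyt
    have hswap : (r y)⁻¹ * (t * y * t) * r t ∈ loops D d →
        (r t)⁻¹ * (y * t * y) * r y ∈ loops D d := fun h => by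
      have h' := inv_mem h
      rwa [mul_inv_rev, mul_inv_rev, inv_inv, inv_eq hc.1 (conj_mem hc ht hy), ← mul_assoc,
        ← braid hc.1 hy ht hyt] at h'
    by_cases hdy : Commute d y
    · by_cases hdt : Commute d t
      · have hyd : y ≠ d := fun h => hyt (h ▸ hdt)
        have htd : t ≠ d := fun h => hyt (by rw [h]; exact hdy.symm)
        obtain ⟨w, hw, h1, h2, e⟩ := hrl (y := y) ⟨hy, hyd, hdy⟩
        obtain ⟨w₁, hw₁, h3, h4, e'⟩ := hrl (y := t) ⟨ht, htd, hdt⟩
        set z := y * t * y with hz
        have hzD : z ∈ D := conj_mem hc hy ht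
        have hdz : Commute d z := (hdy.mul_right hdt).mul_right hdy
        have hzd : z * d * z = d := (conj_eq_self_iff hc.1 hzD).2 hdz.symm
        have hzy : z * y * z = t := third_conj hc hy ht hyt
        have hw2 : z * w * z ∈ D := conj_mem hc hzD hw
        have n1 : ¬ Commute d (z * w * z) := fun h => h1 ((commute_conj_inv hc hzD).1 (by rwa [hzd]))
        have n2 : ¬ Commute t (z * w * z) := fun h => h2 ((commute_conj_inv hc hzD).1 (by rwa [hzy]))
        have hvia := via_mem hc hd ht hdt hw2 hw₁ n1 h3 n2 h4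
        have hzL : z ∈ loops D d := subset_closure (Or.inl ⟨hzD, hdz⟩)
        have he : via d t (z * w * z) = z * via d y w * z := by
          simp only [via]
          conv_lhs => rw [← hzy, ← hzd]
          have hz2 := mul_self hc.1 hzD
          have key : ∀ a b c : G, z * a * z * (z * b * z) * (z * c * z) = z * (a * b * c) * z := by
            intro a b c
            calc z * a * z * (z * b * z) * (z * c * z)
                = z * a * ((z * z) * (b * ((z * z) * (c * z)))) := by simp only [mul_assoc]
              _ = _ := by rw [hz2, one_mul, one_mul]; simp only [mul_assoc]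
          rw [key, key]
          calc z * (w * y * w) * z * (z * (d * w * d) * z)
              = z * (w * y * w) * ((z * z) * ((d * w * d) * z)) := by simp only [mul_assoc]
            _ = _ := by rw [hz2, one_mul]; simp only [mul_assoc]
        rw [he] at hvia
        have := mul_mem hvia hzL
        rw [e', e]
        simpa [mul_assoc, mul_self hc.1 hzD] using this
      · by_cases hyd : y = d
        · subst hyd
          rw [hrd, hrn hdt, inv_eq hc.1 (conj_mem hc hy ht), mul_one,
            mul_self hc.1 (conj_mem hc hy ht)]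
          exact one_mem _
        · exact hswap (hmix ht hdt ⟨hy, hyd, hdy⟩ fun h => hyt h.symm)
    · by_cases hdt : Commute d t
      · by_cases htd : t = d
        · subst htd
          rw [hrd, hrn hdy, ← braid hc.1 ht hy hdy, inv_one, one_mul,
            mul_self hc.1 (conj_mem hc ht hy)]
          exact one_mem _
        · exact hmix hy hdy ⟨ht, htd, hdt⟩ hyt
      · rw [hrn hdy, hrn hdt, inv_eq hc.1 (conj_mem hc hd ht)]
        exact triangle_mem hc hd hy ht hdy hdt hyt
  have hstep : ∀ z ∈ D, ∀ y ∈ D, (r (z * y * z⁻¹))⁻¹ * z * r y ∈ loops D d := by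
    intro z hz y hy
    rw [inv_eq hc.1 hz]
    by_cases hzy : Commute z y
    · rw [(conj_eq_self_iff hc.1 hz).2 hzy]
      refine subset_closure (Or.inl ⟨?_, ?_⟩)
      · simpa using CfsgLib.ThreeTransp.class_conj_mem hc (r y)⁻¹ hz
      · have e : (r y)⁻¹ * y * r y = d := by
          conv_lhs => arg 1; arg 2; rw [← hconj y hy]
          group
        have h := (CfsgLib.ThreeTrans.commute_conj_iff' (r y)⁻¹ y z).2 hzy.symm
        rwa [inv_inv, e] at h
    · have hnc : ¬ Commute y (z * y * z) := fun h => hzy (by
        rw [braid hc.1 hz hy hzy] at h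
        have h' := (commute_conj_inv hc hy).2 h
        rw [(conj_eq_self_iff hc.1 hy).2 (Commute.refl y), conj_conj hc hy] at h'
        exact h'.symm)
      have h := hedge hy (conj_mem hc hz hy) hnc
      rwa [show y * (z * y * z) * y = z by rw [braid hc.1 hz hy hzy, conj_conj hc hy]] at h
  have hall : ∀ x : G, ∀ y ∈ D, (r (x * y * x⁻¹))⁻¹ * x * r y ∈ loops D d := by
    intro x
    have hx : x ∈ closure D := hc.2.2 ▸ mem_top x
    induction hx using closure_induction'' with
    | mem z hz => exact hstep z hz
    | inv_mem z hz => rw [inv_eq hc.1 hz]; exact hstep z hz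
    | one => intro y _; simp
    | mul m n _ _ ihm ihn =>
      intro y hy
      have h := mul_mem (ihm _ (CfsgLib.ThreeTransp.class_conj_mem hc n hy)) (ihn y hy)
      convert h using 1
      rw [show m * n * y * (m * n)⁻¹ = m * (n * y * n⁻¹) * m⁻¹ by group]
      group
  have h := hall g d hd
  rwa [conj_self_of_commute hg, hrd, inv_one, one_mul, mul_one] at h

end CfsgLib.FischerInvol
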