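import Cfsg.Agent.Lib.FischerType.SymBase

set_option autoImplicit false

/-! A totally isotropic plane of the unitary space of dimension six over the field with four elements,
and counts of isotropic vectors. -/

namespace CfsgLib.FischerInvol.U6

open Module CfsgLib.Classical.Herm HermSpace CfsgLib.UnitaryTransv CfsgLib.U6Cover
open CfsgLib.FischerType.U6

variable {F : Type*} [Field F] [Fintype F] (hF : Fintype.card F = 2 ^ 2)

local notation "𝓗" => stdHerm hF 6
local notation "𝕍" => (Fin 6 → F)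

/-- The vectors of the plane. -/
def P (a b c : F) : Fin 6 → F := ![a, a, b, b, c, c]

omit [Fintype F] in
theorem P_ne {a b c : F} (h : a ≠ 0 ∨ b ≠ 0 ∨ c ≠ 0) : P a b c ≠ 0 := by
  intro h0
  rcases h with h | h | h
  · exact h (congrFun h0 0)
  · exact h (congrFun h0 2)
  · exact h (congrFun h0 4)

omit [Fintype F] in
theorem P_eq_zero {a b c : F} : P a b c = 0 ↔ a = 0 ∧ b = 0 ∧ c = 0 := by
  refine ⟨fun h => ⟨congrFun h 0, congrFun h 2, congrFun h 4⟩, fun ⟨h1, h2, h3⟩ => ?_⟩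
  funext i; fin_cases i <;> simp [P, h1, h2, h3]

omit [Fintype F] in
theorem P_add (a b c a' b' c' : F) : P a b c + P a' b' c' = P (a + a') (b + b') (c + c') := by
  funext i; fin_cases i <;> simp [P]

omit [Fintype F] in
theorem P_smul (t a b c : F) : t • P a b c = P (t * a) (t * b) (t * c) := by
  funext i; fin_cases i <;> simp [P]

include hF

theorem h_P (x : 𝕍) (a b c : F) :
    (𝓗).h x (P a b c) = (x 0 + x 1) * a ^ 2 + (x 2 + x 3) * b ^ 2 + (x 4 + x 5) * c ^ 2 := by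
  rw [h_six]; simp [P]; ring

theorem P_orth (a b c a' b' c' : F) : (𝓗).h (P a b c) (P a' b' c') = 0 := by
  rw [h_P]; simp [P, add_self_zero hF]

theorem eq_add_self {a b : F} (h : a + b = 0) : b = a := by
  linear_combination h - a * two_eq_zero hF

/-- The plane is its own perp. -/
theorem eq_P_of_orth {x : 𝕍} (h1 : (𝓗).h x (P 1 0 0) = 0) (h2 : (𝓗).h x (P 0 1 0) = 0)
    (h3 : (𝓗).h x (P 0 0 1) = 0) : x = P (x 0) (x 2) (x 4) := by
  rw [h_P] at h1 h2 h3
  simp at h1 h2 h3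
  funext i
  fin_cases i <;> simp [P, eq_add_self hF h1, eq_add_self hF h2, eq_add_self hF h3]

theorem exists_omega : ∃ w : F, w ≠ 0 ∧ w ≠ 1 ∧ w ^ 2 + w + 1 = 0 ∧ w ^ 3 = 1 := by
  obtain ⟨w, h0, h1⟩ := exists_not_zero_one hF
  have h3 := CfsgLib.UnitaryTransv.pow_three hF h0
  refine ⟨w, h0, h1, ?_, h3⟩
  have h : (w - 1) * (w ^ 2 + w + 1) = 0 := by linear_combination h3
  exact (mul_eq_zero.1 h).resolve_left (sub_ne_zero.2 h1)

theorem sq_ne_zero_mul {a : F} (ha : a ≠ 0) : a * a ^ 2 = 1 := by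
  linear_combination CfsgLib.UnitaryTransv.pow_three hF ha

/-- Isotropic vectors orthogonal to the plane translate within the group of the plane. -/
theorem exists_translate {s s' : 𝕍} (hs : (𝓗).h s s = 0) (hs' : (𝓗).h s' s' = 0)
    (hout : ¬ s = P (s 0) (s 2) (s 4)) (hA : s' 0 + s' 1 = s 0 + s 1)
    (hB : s' 2 + s' 3 = s 2 + s 3) (hC : s' 4 + s' 5 = s 4 + s 5) :
    s' = s ∨
      (∃ a b c, P a b c ≠ 0 ∧ s' = s + (𝓗).h s (P a b c) • P a b c) ∨
      ∃ a b c a' b' c', P a b c ≠ 0 ∧ P a' b' c' ≠ 0 ∧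
        s' = (s + (𝓗).h s (P a b c) • P a b c) +
          (𝓗).h (s + (𝓗).h s (P a b c) • P a b c) (P a' b' c') • P a' b' c' := by
  have h2 := two_eq_zero hF
  set a := s 0 + s' 0 with ha
  set b := s 2 + s' 2 with hb
  set c := s 4 + s' 4 with hc
  have hw : s' = s + P a b c := by
    funext i
    fin_cases i <;> simp [P, ha, hb, hc]
    · linear_combination -(s 0) * h2
    · linear_combination hA - s' 0 * h2
    · linear_combination -(s 2) * h2
    · linear_combination hB - s' 2 * h2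
    · linear_combination -(s 4) * h2
    · linear_combination hC - s' 4 * h2
  by_cases h0 : P a b c = 0
  · exact Or.inl (by rw [hw, h0, add_zero])
  right
  have hww := P_orth hF a b c a b c
  have e : (𝓗).h s (P a b c) + (𝓗).h s (P a b c) ^ 2 = 0 := by
    have := hs'
    rw [hw, (𝓗).add_left, (𝓗).add_right, (𝓗).add_right, hs, hww] at this
    rw [← (𝓗).symm' s (P a b c), stdHerm_conj] at this
    linear_combination this
  have e' : (𝓗).h s (P a b c) * (1 + (𝓗).h s (P a b c)) = 0 := by linear_combination e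
  rcases mul_eq_zero.1 e' with h | h
  · right
    obtain ⟨x, y, z, hxyz, h1⟩ : ∃ x y z : F, P x y z ≠ 0 ∧ (𝓗).h s (P x y z) = 1 := by
      by_cases hA0 : s 0 + s 1 = 0
      · by_cases hB0 : s 2 + s 3 = 0
        · by_cases hC0 : s 4 + s 5 = 0
          · refine absurd ?_ hout
            funext i
            fin_cases i <;>
              simp [P, eq_add_self hF hA0, eq_add_self hF hB0, eq_add_self hF hC0]
          · exact ⟨0, 0, s 4 + s 5, P_ne (Or.inr (Or.inr hC0)),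
              by rw [h_P]; simpa [hA0, hB0] using sq_ne_zero_mul hF hC0⟩
        · exact ⟨0, s 2 + s 3, 0, P_ne (Or.inr (Or.inl hB0)),
            by rw [h_P]; simpa using sq_ne_zero_mul hF hB0⟩
      · exact ⟨s 0 + s 1, 0, 0, P_ne (Or.inl hA0), by rw [h_P]; simpa using sq_ne_zero_mul hF hA0⟩
    refine ⟨x, y, z, a + x, b + y, c + z, hxyz, ?_, ?_⟩
    · intro h'
      have hh : (𝓗).h s (P (a + x) (b + y) (c + z)) = 1 := by
        rw [← P_add, (𝓗).add_right, h, h1, zero_add]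
      rw [h', (𝓗).zero_right] at hh
      exact zero_ne_one hh
    · rw [(𝓗).add_left, (𝓗).smul_left, P_orth, mul_zero, add_zero, ← P_add a b c x y z,
        (𝓗).add_right, h, h1, zero_add, one_smul, one_smul, hw]
      have e2 := smul_add_self_zero hF (P x y z)
      linear_combination (norm := module) (-1 : F) • e2
  · left
    refine ⟨a, b, c, h0, ?_⟩
    rw [show (𝓗).h s (P a b c) = 1 by linear_combination h - h2, one_smul, hw]

/-! ### Orthonormal bases of the form on the plane -/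

/-- Three transvections of the plane with the product of the three basic ones. -/
theorem basis_product {w k : F} (hw : w ^ 2 + w + 1 = 0) (hk : k ^ 3 = 1) (x : 𝕍) :
    (𝓗).h x (P 1 1 k) • P 1 1 k + (𝓗).h x (P 1 w (k * w ^ 2)) • P 1 w (k * w ^ 2) +
      (𝓗).h x (P 1 (w ^ 2) (k * w)) • P 1 (w ^ 2) (k * w) =
    (𝓗).h x (P 1 0 0) • P 1 0 0 + (𝓗).h x (P 0 1 0) • P 0 1 0 + (𝓗).h x (P 0 0 1) • P 0 0 1 := by
  have h2 := two_eq_zero hF
  have hw3 : w ^ 3 = 1 := by linear_combination (w - 1) * hw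
  rw [h_P, h_P, h_P, h_P, h_P, h_P, P_smul, P_smul, P_smul, P_smul, P_smul, P_smul]
  simp only [P_add]
  set A := x 0 + x 1
  set B := x 2 + x 3
  set C := x 4 + x 5
  congr 1
  · linear_combination A * h2 + (B + C * k ^ 2) * hw + (B + C * k ^ 2) * w * hw3
  · linear_combination A * hw + B * h2 + B * (w ^ 3 + 2) * hw3 + C * k ^ 2 * hw +
      C * k ^ 2 * (w + w ^ 2) * hw3
  · linear_combination (A * k + B * k) * hw + B * k * (w + w ^ 2) * hw3 + 3 * C * hk + C * h2 +
      C * k ^ 3 * (w ^ 3 + 2) * hw3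

/-! ### Scalings -/

/-- The scaling of the three pairs of coordinates. -/
noncomputable def diag {a b c : F} (ha : a ≠ 0) (hb : b ≠ 0) (hc : c ≠ 0) : Unit' 𝓗 :=
  ⟨LinearEquiv.piCongrRight fun i : Fin 6 => LinearEquiv.smulOfUnit
      (![Units.mk0 a ha, Units.mk0 a ha, Units.mk0 b hb, Units.mk0 b hb, Units.mk0 c hc,
        Units.mk0 c hc] i),
    fun x y => by
      have h3 : ∀ {t : F}, t ≠ 0 → t * t ^ 2 = 1 := fun h => sq_ne_zero_mul hF h
      rw [h_six, h_six]
      simp [LinearEquiv.smulOfUnit, Units.smul_def]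
      linear_combination (x 0 * y 0 ^ 2 + x 1 * y 1 ^ 2) * h3 ha +
        (x 2 * y 2 ^ 2 + x 3 * y 3 ^ 2) * h3 hb + (x 4 * y 4 ^ 2 + x 5 * y 5 ^ 2) * h3 hc⟩

theorem diag_P {a b c : F} (ha : a ≠ 0) (hb : b ≠ 0) (hc : c ≠ 0) (x y z : F) :
    (diag hF ha hb hc).1 (P x y z) = P (a * x) (b * y) (c * z) := by
  funext i
  fin_cases i <;> simp [diag, P, LinearEquiv.smulOfUnit, Units.smul_def]

theorem det_diag {a b c : F} (ha : a ≠ 0) (hb : b ≠ 0) (hc : c ≠ 0) (habc : a * b * c = 1) :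
    detHom 𝓗 (diag hF ha hb hc) = 1 := by
  apply Units.ext
  show (LinearEquiv.det (diag hF ha hb hc).1 : F) = _
  rw [LinearEquiv.coe_det, show ((diag hF ha hb hc).1 : 𝕍 →ₗ[F] 𝕍) =
      Matrix.toLin' (Matrix.diagonal ![a, a, b, b, c, c]) from LinearMap.ext fun x => by
        funext i
        fin_cases i <;> simp [diag, LinearEquiv.smulOfUnit, Units.smul_def, Matrix.mulVec_diagonal],
    LinearMap.det_toLin', Matrix.det_diagonal]
  simp [Fin.prod_univ_succ]
  linear_combination (a * b * c + 1) * habc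

/-! ### Connectedness -/

/-- A vector separating two others combines two that separate them from each other. -/
theorem exists_sum_separating {y z a b : 𝕍} (hy : (𝓗).h y y = 0) (hz : (𝓗).h z z = 0)
    (hya : (𝓗).h y a ≠ 0) (hyb : (𝓗).h y b = 0) (hza : (𝓗).h z a = 0) (hzb : (𝓗).h z b ≠ 0) :
    ∃ t : F, (y + t • z) ≠ 0 ∧ (𝓗).h (y + t • z) (y + t • z) = 0 ∧
      (𝓗).h (y + t • z) a ≠ 0 ∧ (𝓗).h (y + t • z) b ≠ 0 := by
  obtain ⟨t, ht, ht0⟩ : ∃ t : F, t ^ 2 * (𝓗).h y z + t * (𝓗).h z y = 0 ∧ t ≠ 0 := by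
    have hs := (𝓗).symm' y z
    rw [stdHerm_conj] at hs
    by_cases h : (𝓗).h y z = 0
    · exact ⟨1, by rw [h, (𝓗).h_comm_zero h]; ring, one_ne_zero⟩
    · refine ⟨(𝓗).h y z, ?_, h⟩
      rw [← hs]
      linear_combination (𝓗).h y z ^ 3 * two_eq_zero hF
  have h1 : (𝓗).h (y + t • z) a = (𝓗).h y a := by
    rw [(𝓗).add_left, (𝓗).smul_left, hza, mul_zero, add_zero]
  refine ⟨t, fun h0 => ?_, ?_, h1 ▸ hya, ?_⟩
  · rw [h0, (𝓗).zero_left] at h1
    exact hya h1.symm
  · rw [(𝓗).add_left, (𝓗).add_right, (𝓗).add_right, (𝓗).smul_left, (𝓗).smul_left,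
      (𝓗).smul_right, (𝓗).smul_right, hy, hz, stdHerm_conj]
    linear_combination ht
  · rw [(𝓗).add_left, (𝓗).smul_left, hyb, zero_add]
    exact mul_ne_zero ht0 hzb

/-- Two isotropic vectors are not orthogonal, or some isotropic vector is orthogonal to neither. -/
theorem exists_neither {a b : 𝕍} (ha0 : a ≠ 0) (hb0 : b ≠ 0) :
    ∃ r, r ≠ 0 ∧ (𝓗).h r r = 0 ∧ (𝓗).h r a ≠ 0 ∧ (𝓗).h r b ≠ 0 := by
  by_cases hind : ∃ c : F, c • b = a
  · obtain ⟨c, hc⟩ := hind
    have hc0 : c ≠ 0 := fun h => ha0 (by rw [← hc, h, zero_smul])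
    obtain ⟨x, hx⟩ := (𝓗).exists_h_one hb0
    by_contra! hno
    have := span_perp hF (a := 0) (b := 0) (y := b)
      (fun k h0 h1 _ _ => (𝓗).h_comm_zero (by
        by_contra hk
        refine hk (hno k h0 h1 ?_)
        rw [← hc, (𝓗).smul_right, stdHerm_conj]
        exact mul_ne_zero (pow_ne_zero _ hc0) hk))
      (k := x) ((𝓗).zero_right x) ((𝓗).zero_right x)
    rw [(𝓗).h_comm_zero this] at hx
    exact zero_ne_one hx
  push Not at hind
  obtain ⟨y, hy0, hy, hyb, hya⟩ := exists_separating hF hb0 hind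
  obtain ⟨z, hz0, hz, hza, hzb⟩ := exists_separating hF ha0 (a := b) (b := a) fun c h => by
    have hc0 : c ≠ 0 := fun h' => hb0 (by rw [← h, h', zero_smul])
    exact hind c⁻¹ (by rw [← h, smul_smul, inv_mul_cancel₀ hc0, one_smul])
  obtain ⟨t, h⟩ := exists_sum_separating hF hy hz hya hyb hza hzb
  exact ⟨_, h⟩

/-- The same inside the perp of a vector. -/
theorem exists_neither_perp {e a b : 𝕍} (he0 : e ≠ 0) 
    (hia : ∀ c : F, c • e ≠ a) (hib : ∀ c : F, c • e ≠ b) :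
    ∃ r, r ≠ 0 ∧ (𝓗).h r r = 0 ∧ (𝓗).h r e = 0 ∧ (𝓗).h r a ≠ 0 ∧ (𝓗).h r b ≠ 0 := by
  by_cases hspan : ∃ α β : F, a = α • e + β • b
  · obtain ⟨α, β, hab⟩ := hspan
    have hβ : β ≠ 0 := fun h => hia α (by rw [hab, h, zero_smul, add_zero])
    obtain ⟨y, hy0, hy, hye, hyb⟩ := exists_separating hF he0 hib
    refine ⟨y, hy0, hy, hye, ?_, hyb⟩
    rw [hab, (𝓗).add_right, (𝓗).smul_right, (𝓗).smul_right, hye, mul_zero, zero_add, stdHerm_conj]
    exact mul_ne_zero (pow_ne_zero _ hβ) hyb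
  have hind : ∀ u v : 𝕍, (¬ ∃ α β : F, u = α • e + β • v) → (∀ c : F, c • e ≠ v) →
      v ≠ 0 → ∃ y, y ≠ 0 ∧ (𝓗).h y y = 0 ∧ (𝓗).h y e = 0 ∧ (𝓗).h y v = 0 ∧ (𝓗).h y u ≠ 0 := by
    intro u v hu hv hv0
    by_contra! hno
    refine hu (exists_comb_line hF hv0 (fun c h => ?_) fun k h0 h1 h2 h3 =>
      (𝓗).h_comm_zero (hno k h0 h1 h2 h3))
    have hc0 : c ≠ 0 := fun h' => he0 (by rw [← h, h', zero_smul])
    exact hv c⁻¹ (by rw [← h, smul_smul, inv_mul_cancel₀ hc0, one_smul])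
  have hb0 : b ≠ 0 := fun h => hib 0 (by rw [h, zero_smul])
  have ha0 : a ≠ 0 := fun h => hia 0 (by rw [h, zero_smul])
  obtain ⟨y, hy0, hy, hye, hyb, hya⟩ := hind a b hspan hib hb0
  obtain ⟨z, hz0, hz, hze, hza, hzb⟩ := hind b a (fun ⟨α, β, h⟩ => by
    have hβ : β ≠ 0 := fun h' => hib α (by rw [h, h', zero_smul, add_zero])
    exact hspan ⟨-(β⁻¹ * α), β⁻¹, by
      rw [h, smul_add, smul_smul, smul_smul, inv_mul_cancel₀ hβ, one_smul, neg_smul]; abel⟩) hia ha0
  obtain ⟨t, h0, h1, h2, h3⟩ := exists_sum_separating hF hy hz hya hyb hza hzb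
  exact ⟨_, h0, h1, by rw [(𝓗).add_left, (𝓗).smul_left, hye, hze, mul_zero, add_zero], h2, h3⟩

omit hF in
/-- The vectors orthogonal to the basic line and outside it. -/
def OffLine (x : Fin 6 → F) : Prop :=
  x 0 + x 1 = 0 ∧ x 2 + x 3 = 0 ∧ x 4 ≠ 0

theorem offLine_iff {x : 𝕍} (hx : (𝓗).h x x = 0) :
    OffLine x ↔ (𝓗).h x (P 1 0 0) = 0 ∧ (𝓗).h x (P 0 1 0) = 0 ∧
      ∀ a b : F, x ≠ P a b 0 := by
  rw [h_P, h_P]
  simp only [one_pow, mul_one, zero_pow two_ne_zero, mul_zero, add_zero, zero_add]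
  constructor
  · rintro ⟨h1, h2, h4⟩
    exact ⟨h1, h2, fun a b h => h4 (by rw [h]; simp [P])⟩
  · rintro ⟨h1, h2, h3⟩
    refine ⟨h1, h2, fun h4 => h3 (x 0) (x 2) ?_⟩
    have h5 : x 5 = 0 := by
      by_contra h5
      rw [h_six] at hx
      have := sq_ne_zero_mul hF h5
      simp [h4, eq_add_self hF h1, eq_add_self hF h2, this, add_self_zero hF] at hx
    funext i
    fin_cases i <;> simp [P, h4, h5, eq_add_self hF h1, eq_add_self hF h2]

/-- Any two such isotropic vectors have another one orthogonal to neither, or are not orthogonal. -/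
theorem exists_neither_offLine {p q : 𝕍} (hp : OffLine p) (hq : OffLine q) (hpp : (𝓗).h p p = 0)
    (hqq : (𝓗).h q q = 0) (hpq : (𝓗).h p q = 0) :
    ∃ r, OffLine r ∧ (𝓗).h r r = 0 ∧ (𝓗).h r p ≠ 0 ∧ (𝓗).h r q ≠ 0 := by
  have h2 := two_eq_zero hF
  obtain ⟨p1, p3, p4⟩ := hp
  obtain ⟨q1, q3, q4⟩ := hq
  obtain ⟨w, hw0, hw1, hw, hw3⟩ := exists_omega hF
  have e1 := eq_add_self hF p1
  have e3 := eq_add_self hF p3
  have f1 := eq_add_self hF q1
  have f3 := eq_add_self hF q3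
  rw [h_six, e1, e3] at hpp
  rw [h_six, f1, f3] at hqq
  rw [h_six, e1, e3, f1, f3] at hpq
  have hP : p 4 * p 4 ^ 2 + p 5 * p 5 ^ 2 = 0 := by
    linear_combination hpp - (p 0 ^ 3 + p 2 ^ 3) * h2
  have hQ : q 4 * q 4 ^ 2 + q 5 * q 5 ^ 2 = 0 := by
    linear_combination hqq - (q 0 ^ 3 + q 2 ^ 3) * h2
  have hPQ : p 4 * q 4 ^ 2 + p 5 * q 5 ^ 2 = 0 := by
    linear_combination hpq - (p 0 * q 0 ^ 2 + p 2 * q 2 ^ 2) * h2
  have p44 := sq_ne_zero_mul hF p4
  have q44 := sq_ne_zero_mul hF q4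
  obtain ⟨tp, htp⟩ : ∃ tp, p 5 = tp * p 4 := ⟨p 5 * p 4 ^ 2, by linear_combination -(p 5) * p44⟩
  obtain ⟨tq, htq⟩ : ∃ tq, q 5 = tq * q 4 := ⟨q 5 * q 4 ^ 2, by linear_combination -(q 5) * q44⟩
  have htp3 : tp ^ 3 = 1 := by
    rw [htp] at hP
    linear_combination hP - (1 + tp ^ 3) * p44 - h2
  have htq3 : tq ^ 3 = 1 := by
    rw [htq] at hQ
    linear_combination hQ - (1 + tq ^ 3) * q44 - h2
  have htt : tp = tq := by
    rw [htp, htq] at hPQ
    have e : p 4 * q 4 ^ 2 * (1 + tp * tq ^ 2) = 0 := by linear_combination hPQ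
    have := (mul_eq_zero.1 e).resolve_left (mul_ne_zero p4 (pow_ne_zero _ q4))
    linear_combination tq * this - tp * htq3 - tq * h2
  obtain ⟨t, ht0, ht⟩ : ∃ t : F, t ≠ 0 ∧ t ≠ tp := by
    by_cases h : tp = 1
    · exact ⟨w, hw0, h ▸ hw1⟩
    · exact ⟨1, one_ne_zero, fun h' => h h'.symm⟩
  have ht3 := CfsgLib.UnitaryTransv.pow_three hF ht0
  refine ⟨![0, 0, 0, 0, 1, t], ⟨by simp, by simp, by simp⟩, ?_, fun h => ht ?_, fun h => ht ?_⟩
  · rw [h_six]; simp; linear_combination ht3 + h2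
  · rw [h_six, htp] at h
    simp at h
    have e : p 4 ^ 2 * (1 + t * tp ^ 2) = 0 := by linear_combination h
    have := (mul_eq_zero.1 e).resolve_left (pow_ne_zero _ p4)
    linear_combination tp * this - t * htp3 - tp * h2
  · rw [h_six, htq, ← htt] at h
    simp at h
    have e : q 4 ^ 2 * (1 + t * tp ^ 2) = 0 := by linear_combination h
    have := (mul_eq_zero.1 e).resolve_left (pow_ne_zero _ q4)
    linear_combination tp * this - t * htp3 - tp * h2

/-! ### Counts -/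

theorem natCast_eq_zero_iff (N : ℕ) : (N : F) = 0 ↔ Even N := by
  rcases Nat.even_or_odd' N with ⟨k, rfl | rfl⟩
  · simp [two_eq_zero hF]
  · simp [two_eq_zero hF, Nat.not_even_two_mul_add_one]

omit hF in
/-- The norm of a vector of any length. -/
def wsum {n : ℕ} (w : Fin n → F) : F := ∑ i, w i * w i ^ 2

theorem card_wsum (n : ℕ) :
    (2 * Nat.card {w : Fin n → F // wsum w = 0} : ℤ) = 4 ^ n + (-2) ^ n := by
  classical
  let χ : (Fin n → F) → ℤ := fun w => ∏ i, if w i = 0 then 1 else -1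
  have hχ : ∀ w, χ w = if wsum w = 0 then 1 else -1 := by
    intro w
    have e1 : wsum w = ((Finset.univ.filter fun i => w i ≠ 0).card : F) := by
      rw [← Finset.sum_boole]
      refine Finset.sum_congr rfl fun i _ => ?_
      by_cases h : w i = 0
      · simp [h]
      · rw [if_pos h, sq_ne_zero_mul hF h]
    have e2 : χ w = (-1) ^ (Finset.univ.filter fun i => w i ≠ 0).card := by
      rw [← Finset.prod_const, Finset.prod_filter]
      refine Finset.prod_congr rfl fun i _ => ?_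
      by_cases h : w i = 0 <;> simp [h]
    rw [e2, e1]
    by_cases h : Even (Finset.univ.filter fun i => w i ≠ 0).card
    · rw [if_pos ((natCast_eq_zero_iff hF _).2 h), h.neg_one_pow]
    · rw [if_neg fun h' => h ((natCast_eq_zero_iff hF _).1 h'),
        (Nat.not_even_iff_odd.1 h).neg_one_pow]
  have hsum : ∑ w, χ w = (-2) ^ n := by
    rw [← Fintype.prod_sum fun (_ : Fin n) (t : F) => if t = 0 then (1 : ℤ) else -1]
    rw [Finset.prod_const, Finset.card_univ, Fintype.card_fin]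
    congr 1
    rw [Finset.sum_ite, Finset.sum_const, Finset.sum_const]
    simp only [Finset.filter_ne', Finset.mem_univ, Finset.card_erase_of_mem, Finset.card_univ, hF]
    rw [Finset.card_eq_one.2 ⟨(0 : F), by ext; simp⟩]
    norm_num
  have h1 : ∑ w : Fin n → F, (1 + χ w) = 4 ^ n + (-2) ^ n := by
    rw [Finset.sum_add_distrib, hsum, Finset.sum_const, Finset.card_univ, Fintype.card_fun,
      Fintype.card_fin, hF]
    norm_num
  rw [← h1, Nat.card_eq_fintype_card, Fintype.card_subtype]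
  rw [show ((Finset.univ.filter fun w : Fin n → F => wsum w = 0).card : ℤ) =
    ∑ w : Fin n → F, if wsum w = 0 then (1 : ℤ) else 0 by rw [Finset.sum_boole]]
  rw [Finset.mul_sum]
  refine Finset.sum_congr rfl fun w _ => ?_
  rw [hχ]
  split_ifs <;> norm_num

theorem card_isotropic : Nat.card {v : 𝕍 // (𝓗).h v v = 0} = 2080 := by
  have h := card_wsum hF 6
  have e : Nat.card {v : 𝕍 // (𝓗).h v v = 0} = Nat.card {w : 𝕍 // wsum w = 0} :=
    Nat.card_congr (Equiv.subtypeEquivRight fun v => by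
      rw [wsum, h_six]; simp [Fin.sum_univ_succ, add_assoc])
  norm_num [-Nat.card_eq_fintype_card] at h
  omega

theorem card_perp_point :
    Nat.card {v : 𝕍 // (𝓗).h v v = 0 ∧ (𝓗).h v (P 1 0 0) = 0} = 544 := by
  classical
  have h := card_wsum hF 4
  have hF' : Nat.card F = 4 := by rw [Nat.card_eq_fintype_card, hF]; norm_num
  have e : Nat.card {v : 𝕍 // (𝓗).h v v = 0 ∧ (𝓗).h v (P 1 0 0) = 0} =
      Nat.card (F × {w : Fin 4 → F // wsum w = 0}) := by
    refine Nat.card_congr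
      { toFun := fun v => (v.1 0, ⟨fun i => v.1 i.succ.succ, ?_⟩)
        invFun := fun p => ⟨Fin.cons p.1 (Fin.cons p.1 p.2.1), ?_, ?_⟩
        left_inv := fun v => ?_
        right_inv := fun p => ?_ }
    · have h1 := v.2.1
      have h2 : v.1 0 + v.1 1 = 0 := by
        have := v.2.2
        rw [h_P] at this
        simpa using this
      rw [h_six, eq_add_self hF h2] at h1
      simp [wsum, Fin.sum_univ_succ]
      linear_combination h1 - v.1 0 ^ 3 * two_eq_zero hF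
    · have h1 := p.2.2
      simp [wsum, Fin.sum_univ_succ] at h1
      rw [h_six]
      show p.1 * p.1 ^ 2 + p.1 * p.1 ^ 2 + p.2.1 0 * p.2.1 0 ^ 2 + p.2.1 1 * p.2.1 1 ^ 2 +
        p.2.1 2 * p.2.1 2 ^ 2 + p.2.1 3 * p.2.1 3 ^ 2 = 0
      linear_combination h1 + p.1 ^ 3 * two_eq_zero hF
    · rw [h_P]
      show (p.1 + p.1) * 1 ^ 2 + _ * (0 : F) ^ 2 + _ * (0 : F) ^ 2 = 0
      simp [add_self_zero hF]
    · apply Subtype.ext
      have h2 : v.1 0 + v.1 1 = 0 := by
        have := v.2.2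
        rw [h_P] at this
        simpa using this
      funext i
      fin_cases i <;> simp [eq_add_self hF h2] <;> rfl
    · exact Prod.ext rfl (Subtype.ext rfl)
  have h' : Nat.card {w : Fin 4 → F // wsum w = 0} = 136 := by
    norm_num [-Nat.card_eq_fintype_card] at h
    omega
  rw [e, Nat.card_prod, hF', h']

theorem card_perp_pair {w : F} (hw : w ≠ 0) (hw1 : w ≠ 1) :
    Nat.card {v : 𝕍 // (𝓗).h v v = 0 ∧ (𝓗).h v (P 1 0 0) = 0 ∧
      (𝓗).h v ![1, w, 0, 0, 0, 0] = 0} = 136 := by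
  classical
  have h := card_wsum hF 4
  have e : Nat.card {v : 𝕍 // (𝓗).h v v = 0 ∧ (𝓗).h v (P 1 0 0) = 0 ∧
      (𝓗).h v ![1, w, 0, 0, 0, 0] = 0} = Nat.card {x : Fin 4 → F // wsum x = 0} := by
    have hzero : ∀ v : {v : 𝕍 // (𝓗).h v v = 0 ∧ (𝓗).h v (P 1 0 0) = 0 ∧
        (𝓗).h v ![1, w, 0, 0, 0, 0] = 0}, v.1 0 = 0 ∧ v.1 1 = 0 := by
      rintro ⟨v, -, h1, h2⟩
      have e1 := eq_add_self hF (show v 0 + v 1 = 0 by
        rw [h_P] at h1
        simpa using h1)
      rw [h_six, e1] at h2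
      simp at h2
      have h3 : v 0 * (1 + w) ^ 2 = 0 := by linear_combination h2 + v 0 * w * two_eq_zero hF
      have h4 : (1 + w) ^ 2 ≠ 0 := pow_ne_zero _ fun h => hw1 (by
        linear_combination h - two_eq_zero hF)
      have h5 := (mul_eq_zero.1 h3).resolve_right h4
      exact ⟨h5, e1.trans h5⟩
    refine Nat.card_congr
      { toFun := fun v => ⟨fun i => v.1 i.succ.succ, ?_⟩
        invFun := fun p => ⟨Fin.cons 0 (Fin.cons 0 p.1), ?_, ?_, ?_⟩
        left_inv := fun v => ?_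
        right_inv := fun p => rfl }
    · have h1 := v.2.1
      rw [h_six, (hzero v).1, (hzero v).2] at h1
      simp [wsum, Fin.sum_univ_succ]
      linear_combination h1
    · have h1 := p.2
      simp [wsum, Fin.sum_univ_succ] at h1
      rw [h_six]
      show (0 : F) * 0 ^ 2 + 0 * 0 ^ 2 + p.1 0 * p.1 0 ^ 2 + p.1 1 * p.1 1 ^ 2 +
        p.1 2 * p.1 2 ^ 2 + p.1 3 * p.1 3 ^ 2 = 0
      linear_combination h1
    · rw [h_P]
      show ((0 : F) + 0) * 1 ^ 2 + _ * (0 : F) ^ 2 + _ * (0 : F) ^ 2 = 0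
      simp
    · rw [h_six]
      show (0 : F) * _ + 0 * _ + _ * (0 : F) ^ 2 + _ * (0 : F) ^ 2 + _ * (0 : F) ^ 2 +
        _ * (0 : F) ^ 2 = 0
      simp
    · apply Subtype.ext
      funext i
      fin_cases i <;> simp [(hzero v).1, (hzero v).2] <;> rfl
  rw [e]
  norm_num [-Nat.card_eq_fintype_card] at h
  omega

end CfsgLib.FischerInvol.U6
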