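import Cfsg.Agent.Lib.FischerInvol.Base

set_option autoImplicit false

/-! Products of at most three members of a base are told apart, and form the group it generates. -/

namespace CfsgLib.FischerInvol

open Subgroup CfsgLib.Classical.Herm HermSpace CfsgLib.UnitaryTransv
open CfsgLib.FischerType
open CfsgLib.FischerInvol.U6
open CfsgLib.ThreeTrans (link mul_self inv_eq braid commute_conj_iff' conj_self_of_commute)

variable {G : Type*} [Group G] {D : Set G}

/-- `x` is a product of at most three different commuting members of `B`. -/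
def Short (B : Set G) (x : G) : Prop :=
  x = 1 ∨ x ∈ B ∨ (∃ u ∈ B, ∃ w ∈ B, u ≠ w ∧ x = u * w) ∨
    ∃ u ∈ B, ∃ v ∈ B, ∃ w ∈ B, u ≠ v ∧ u ≠ w ∧ v ≠ w ∧ x = u * v * w

/-- A member is no product of two others. -/
theorem ne_mul_two (S : Setting D) [Finite G] {b u v : G} (hb : b ∈ D) (hu : u ∈ D) (hv : v ∈ D)
    (huv : u ≠ v) (cuv : Commute u v) : b ≠ u * v := by
  intro h
  have hset := S.cls.1
  by_cases hbu : b = u
  · subst hbu
    exact CfsgLib.ThreeTrans.ne_one hset hv (mul_left_cancel (a := b) (by rw [mul_one]; exact h.symm))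
  have cbu : Commute b u := h ▸ (Commute.refl u).mul_left cuv.symm
  refine hbu (S.eq_of_sameComm u hu b hb fun x hx => ⟨fun hx' => ?_, fun hx' => ?_⟩).symm
  · exact (commute_of_commute_mul_two hset hu hv hx huv (h ▸ hx'.symm)).1.symm
  · -- `v = u b`
    have hv' : v = u * b := by rw [h, ← mul_assoc, mul_self hset hu, one_mul]
    have hvb : v ≠ b := fun e => CfsgLib.ThreeTrans.ne_one hset hu
      (mul_right_cancel (b := v) (by rw [one_mul, ← h, e]))
    have hu' : u = b * v := by rw [h, mul_assoc, mul_self hset hv, mul_one]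
    exact (commute_of_commute_mul_two hset hb hv hx hvb.symm (hu' ▸ hx'.symm)).1.symm

/-- A member is no product of three others. -/
theorem ne_mul_three (S : Setting D) [Finite G] {b u v w : G} (hb : b ∈ D) (hu : u ∈ D) (hv : v ∈ D)
    (hw : w ∈ D) (huv : u ≠ v) (huw : u ≠ w) (hvw : v ≠ w) (cuv : Commute u v) (cuw : Commute u w)
    (cvw : Commute v w) : b ≠ u * v * w := by
  intro h
  have hset := S.cls.1
  have hcb : Commute b u ∧ Commute b v ∧ Commute b w :=
    commute_of_commute_mul_three hset hu hv hw hb huv huw hvw cuv cuw cvw (h ▸ Commute.refl b)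
  by_cases hbw : b = w
  · subst hbw
    have h1 : u * v = 1 := mul_right_cancel (b := b) (by rw [one_mul]; exact h.symm)
    exact huv ((eq_inv_of_mul_eq_one_left h1).trans (inv_eq hset hv))
  have h' : u * v = b * w := by rw [h, mul_assoc, mul_self hset hw, mul_one]
  rcases S.pair_unique hu hv hb hw huv hbw cuv hcb.2.2 h' with ⟨-, e⟩ | ⟨e, -⟩
  exacts [hvw e, huw e]

/-- Conjugation by two commuting members not commuting with `x` gives a commuting member. -/
theorem commute_conj_pair (hset : Cfsg.IsThreeTranspositionSet D) {a b x : G} (ha : a ∈ D)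
    (hb : b ∈ D) (hx : x ∈ D) (cab : Commute a b) (hxa : ¬ Commute x a) (hxb : ¬ Commute x b) :
    Commute x (a * b * x * (a * b)⁻¹) := by
  have hb2 := mul_self hset hb
  have hx2 := mul_self hset hx
  have hy : a * b * x * (a * b)⁻¹ = a * (x * b * x) * a := by
    rw [mul_inv_rev, inv_eq hset hb, inv_eq hset ha, braid hset hx hb hxb]
    simp only [mul_assoc]
  rw [hy]
  have e1 : a * (x * b * x) * a = x * (a * x) * b * (x * a) * x := by
    calc a * (x * b * x) * a = a * x * (a * a) * b * (x * a) := by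
          rw [mul_self hset ha, mul_one]; simp only [mul_assoc]
      _ = a * x * a * (a * b) * (x * a) := by simp only [mul_assoc]
      _ = a * x * a * b * (a * x * a) := by rw [cab.eq]; simp only [mul_assoc]
      _ = x * a * x * b * (x * a * x) := by rw [braid hset ha hx fun h => hxa h.symm]
      _ = _ := by simp only [mul_assoc]
  show x * (a * (x * b * x) * a) = a * (x * b * x) * a * x
  calc x * (a * (x * b * x) * a) = x * (x * (a * x) * b * (x * a) * x) := by rw [e1]
    _ = (x * x) * (a * x * b * x * a) * x := by simp only [mul_assoc]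
    _ = a * (x * b * x) * a * x := by rw [hx2, one_mul]; simp only [mul_assoc]

/-- Conjugation by three commuting members gives a member not commuting with `x`. -/
theorem not_commute_conj_triple (hc : Cfsg.IsThreeTranspositionClass D) {a b c x : G} (ha : a ∈ D)
    (hb : b ∈ D) (hcD : c ∈ D) (hx : x ∈ D) (cab : Commute a b) (cac : Commute a c) (cbc : Commute b c)
    (hxa : ¬ Commute x a) (hxb : ¬ Commute x b) (hxc : ¬ Commute x c) :
    ¬ Commute x (a * b * c * x * (a * b * c)⁻¹) := by
  set z := a * b * x * (a * b)⁻¹ with hz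
  have hxz : Commute x z := commute_conj_pair hc.1 ha hb hx cab hxa hxb
  have hcz : ¬ Commute c z := fun h => hxc (by
    have h' : Commute (a * b * c * (a * b)⁻¹) (a * b * x * (a * b)⁻¹) := by
      rw [conj_self_of_commute (cac.mul_left cbc)]; exact h
    exact ((commute_conj_iff' (a * b) c x).1 h').symm)
  have hzD : z ∈ D := CfsgLib.ThreeTransp.class_conj_mem hc (a * b) hx
  have e : a * b * c * x * (a * b * c)⁻¹ = c * z * c := by
    rw [hz, (cac.mul_left cbc).eq, mul_inv_rev, mul_inv_rev, inv_eq hc.1 hcD, inv_eq hc.1 ha,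
      inv_eq hc.1 hb]
    simp only [mul_assoc]
  rw [e]
  intro h
  have h1 := (commute_conj_iff' c x (c * z * c)).2 h
  rw [inv_eq hc.1 hcD, show c * (c * z * c) * c = (c * c) * z * (c * c) by simp only [mul_assoc],
    mul_self hc.1 hcD, one_mul, mul_one, ← braid hc.1 hx hcD hxc] at h1
  have h2 := (commute_conj_iff' x _ z).2 h1
  rw [inv_eq hc.1 hx, show x * (x * c * x) * x = (x * x) * c * (x * x) by simp only [mul_assoc],
    mul_self hc.1 hx, one_mul, mul_one, hxz.eq, mul_assoc, mul_self hc.1 hx, mul_one] at h2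
  exact hcz h2

namespace Data

variable [Finite G] (H : Data D)

include H

theorem ne_two_three {d e a b c : G} (hd : d ∈ D) (he : e ∈ D) (ha : a ∈ D) (hb : b ∈ D) (hc : c ∈ D)
    (hde : d ≠ e) (hab : a ≠ b) (hac : a ≠ c) (hbc : b ≠ c) (cde : Commute d e) (cab : Commute a b)
    (cac : Commute a c) (cbc : Commute b c) : d * e ≠ a * b * c := by
  intro h
  have hset := H.S.cls.1
  have hcom : Commute a (d * e) := h ▸ ((Commute.refl a).mul_right cab).mul_right cac
  obtain ⟨cad, cae⟩ := commute_of_commute_mul_two hset hd he ha hde hcom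
  by_cases had : a = d
  · subst had
    rw [mul_assoc] at h
    exact ne_mul_two H.S he hb hc hbc cbc (mul_left_cancel h)
  by_cases hae : a = e
  · subst hae
    rw [cde.eq, mul_assoc] at h
    exact ne_mul_two H.S hd hb hc hbc cbc (mul_left_cancel h)
  obtain ⟨F, i1, i2, ⟨M⟩⟩ := H.model d hd
  obtain ⟨ve, hve⟩ := M.exists_vec (w := e) ⟨he, hde.symm, cde⟩
  obtain ⟨va, hva⟩ := M.exists_vec (w := a) ⟨ha, had, cad.symm⟩
  obtain ⟨y, hy0, hy, hye, hya⟩ := CfsgLib.FischerType.U6.exists_separating M.hF hve.ne_zero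
    (a := va) (fun t ht => hae (M.eq_of_smul hve hva ht.symm).symm)
  obtain ⟨z, hz⟩ := M.exists_member hy hy0
  refine hya ((M.commute_iff hz hva).1 (commute_of_commute_mul_three hset ha hb hc hz.mem.1 hab hac
    hbc cab cac cbc ?_).1)
  rw [← h]
  exact hz.mem.2.2.symm.mul_right ((M.commute_iff hz hve).2 hye)

variable {B : Set G}

theorem short_mul (hB : IsBase D B) {b x : G} (hb : b ∈ B) (hx : Short B x) : Short B (b * x) := by
  have hset := H.S.cls.1
  have hb2 := mul_self hset (hB.sub hb)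
  rcases hx with rfl | hxB | ⟨u, hu, w, hw, huw, rfl⟩ | ⟨u, hu, v, hv, w, hw, huv, huw, hvw, rfl⟩
  · exact Or.inr (Or.inl (by rwa [mul_one]))
  · by_cases h : b = x
    · subst h; exact Or.inl hb2
    · exact Or.inr (Or.inr (Or.inl ⟨b, hb, x, hxB, h, rfl⟩))
  · by_cases h1 : b = u
    · subst h1; exact Or.inr (Or.inl (by rw [← mul_assoc, hb2, one_mul]; exact hw))
    by_cases h2 : b = w
    · subst h2
      refine Or.inr (Or.inl ?_)
      rw [(hB.comm u hu b hb).eq, ← mul_assoc, hb2, one_mul]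
      exact hu
    exact Or.inr (Or.inr (Or.inr ⟨b, hb, u, hu, w, hw, h1, h2, huw, by rw [mul_assoc]⟩))
  · by_cases h1 : b = u
    · subst h1
      exact Or.inr (Or.inr (Or.inl ⟨v, hv, w, hw, hvw, by
        rw [← mul_assoc, ← mul_assoc, hb2, one_mul]⟩))
    by_cases h2 : b = v
    · subst h2
      exact Or.inr (Or.inr (Or.inl ⟨u, hu, w, hw, huw, by
        rw [(hB.comm u hu b hb).eq, ← mul_assoc, ← mul_assoc, hb2, one_mul]⟩))
    by_cases h3 : b = w
    · subst h3
      exact Or.inr (Or.inr (Or.inl ⟨u, hu, v, hv, huv, by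
        rw [((hB.comm u hu b hb).mul_left (hB.comm v hv b hb)).eq, ← mul_assoc, hb2, one_mul]⟩))
    rw [← mul_assoc, ← mul_assoc]
    have hcomm : ∀ s ∈ B, Commute s (b * u * v * w) := fun s hs =>
      (((hB.comm s hs b hb).mul_right (hB.comm s hs u hu)).mul_right
        (hB.comm s hs v hv)).mul_right (hB.comm s hs w hw)
    rcases H.reduce_four (hB.sub hb) (hB.link_mem hb hu (Ne.symm h1)) (hB.link_mem hb hv (Ne.symm h2))
      (hB.link_mem hu hv huv.symm) (hB.link_mem hb hw (Ne.symm h3)) (hB.link_mem hu hw huw.symm)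
      (hB.link_mem hv hw hvw.symm) with
      ⟨q, r, hq, hr, he⟩ | ⟨q, r, s, hq, hr, hs, hsr, he⟩
    · have hk := fun t ht => commute_of_commute_mul_two hset hq hr.1 (hB.sub ht) hr.2.1.symm
        (he ▸ hcomm t ht)
      exact Or.inr (Or.inr (Or.inl ⟨q, H.mem_of_commute_all hB hq fun t ht => (hk t ht).1.symm,
        r, H.mem_of_commute_all hB hr.1 fun t ht => (hk t ht).2.symm, hr.2.1.symm, he⟩))
    · have hk := fun t ht => commute_of_commute_mul_three hset hq hr.1 hs.1 (hB.sub ht) hr.2.1.symm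
        hs.2.1.symm hsr.2.1.symm hr.2.2 hs.2.2 hsr.2.2 (he ▸ hcomm t ht)
      exact Or.inr (Or.inr (Or.inr ⟨q, H.mem_of_commute_all hB hq fun t ht => (hk t ht).1.symm,
        r, H.mem_of_commute_all hB hr.1 fun t ht => (hk t ht).2.1.symm,
        s, H.mem_of_commute_all hB hs.1 fun t ht => (hk t ht).2.2.symm,
        hr.2.1.symm, hs.2.1.symm, hsr.2.1.symm, he⟩))

theorem short_of_mem (hB : IsBase D B) {n : G} (hn : n ∈ closure B) : Short B n := by
  have key : ∀ x, Short B x → Short B (n * x) := by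
    induction hn using closure_induction'' with
    | mem b hb => exact fun x hx => H.short_mul hB hb hx
    | inv_mem b hb => rw [inv_eq H.S.cls.1 (hB.sub hb)]; exact fun x hx => H.short_mul hB hb hx
    | one => intro x hx; rwa [one_mul]
    | mul p q _ _ hp hq => intro x hx; rw [mul_assoc]; exact hp _ (hq x hx)
  simpa using key 1 (Or.inl rfl)

/-- Commuting with `x` and the shape of a product. -/
theorem short_commute_iff (hB : IsBase D B) {x n : G} (hx : x ∈ outside D B) (hn : n ∈ closure B) :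
    (n * x * n⁻¹ = x → n = 1) ∧ (Commute x (n * x * n⁻¹) →
      n = 1 ∨ ∃ u ∈ B, ∃ w ∈ B, u ≠ w ∧ n = u * w) := by
  have hset := H.S.cls.1
  obtain ⟨hxD, hxn⟩ := hx
  rcases H.short_of_mem hB hn with rfl | hb | ⟨u, hu, w, hw, huw, rfl⟩ |
    ⟨u, hu, v, hv, w, hw, huv, huw, hvw, rfl⟩
  · exact ⟨fun _ => rfl, fun _ => Or.inl rfl⟩
  · have hnc : ¬ Commute x (n * x * n⁻¹) := fun h => hxn n hb (by
      rw [inv_eq hset (hB.sub hb), ← braid hset hxD (hB.sub hb) (hxn n hb)] at h
      have h' := (commute_conj_iff' x x (x * n * x)).2 h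
      rw [inv_eq hset hxD, mul_self hset hxD, one_mul,
        show x * (x * n * x) * x = (x * x) * n * (x * x) by simp only [mul_assoc],
        mul_self hset hxD, one_mul, mul_one] at h'
      exact h')
    exact ⟨fun h => absurd (h.symm ▸ Commute.refl x) hnc, fun h => absurd h hnc⟩
  · refine ⟨fun h => ?_, fun _ => Or.inr ⟨u, hu, w, hw, huw, rfl⟩⟩
    exact absurd (commute_of_commute_mul_two hset (hB.sub hu) (hB.sub hw) hxD huw
      (show Commute (u * w) x from mul_inv_eq_iff_eq_mul.1 h).symm).1 (hxn u hu)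
  · have hnc := not_commute_conj_triple H.S.cls (hB.sub hu) (hB.sub hv) (hB.sub hw) hxD
      (hB.comm u hu v hv) (hB.comm u hu w hw) (hB.comm v hv w hw) (hxn u hu) (hxn v hv) (hxn w hw)
    exact ⟨fun h => absurd (h.symm ▸ Commute.refl x) hnc, fun h => absurd h hnc⟩

/-- At least 1024 different products. -/
theorem card_products (hB : IsBase D B) :
    ∃ T : Finset G, (∀ t ∈ T, t ∈ closure B) ∧ 1024 ≤ T.card := by
  classical
  haveI := Fintype.ofFinite G
  have hset := H.S.cls.1
  set BF := B.toFinset with hBF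
  have hBc : BF.card = 22 := by rw [hBF, ← Set.ncard_eq_toFinset_card', hB.card]
  have hmem : ∀ {b}, b ∈ BF → b ∈ B := fun h => Set.mem_toFinset.1 h
  let π : Finset G → G := fun s => s.toList.prod
  have hperm : ∀ (s : Finset G) (l : List G), s ⊆ BF → s.toList.Perm l → π s = l.prod := by
    intro s l hs hl
    refine hl.prod_eq' ?_
    refine List.pairwise_iff_getElem.2 fun i j hi hj _ => hB.comm _ ?_ _ ?_ <;>
      exact hmem (hs (Finset.mem_toList.1 (List.getElem_mem _)))
  have p2 : ∀ {u w : G}, u ∈ BF → w ∈ BF → u ≠ w → π {u, w} = u * w := by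
    intro u w hu hw h
    have e := hperm {u, w} [u, w] (by simp [Finset.insert_subset_iff, hu, hw])
      ((Finset.toList_insert (by simpa using h)).trans (by simp))
    simpa using e
  have p3 : ∀ {u v w : G}, u ∈ BF → v ∈ BF → w ∈ BF → u ≠ v → u ≠ w → v ≠ w →
      π {u, v, w} = u * v * w := by
    intro u v w hu hv hw h1 h2 h3
    have e := hperm {u, v, w} [u, v, w] (by simp [Finset.insert_subset_iff, hu, hv, hw])
      ((Finset.toList_insert (by simp [h1, h2])).trans
        (List.Perm.cons u ((Finset.toList_insert (by simpa using h3)).trans (by simp))))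
    simpa [mul_assoc] using e
  have g2 : ∀ s ∈ BF.powersetCard 2, ∃ u ∈ BF, ∃ w ∈ BF, u ≠ w ∧ s = {u, w} ∧ π s = u * w := by
    intro s hs
    obtain ⟨hs1, hs2⟩ := Finset.mem_powersetCard.1 hs
    obtain ⟨u, w, h, rfl⟩ := Finset.card_eq_two.1 hs2
    simp [Finset.insert_subset_iff] at hs1
    exact ⟨u, hs1.1, w, hs1.2, h, rfl, p2 hs1.1 hs1.2 h⟩
  have g3 : ∀ s ∈ BF.powersetCard 3, ∃ u ∈ BF, ∃ v ∈ BF, ∃ w ∈ BF, u ≠ v ∧ u ≠ w ∧ v ≠ w ∧
      s = {u, v, w} ∧ π s = u * v * w := by
    intro s hs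
    obtain ⟨hs1, hs2⟩ := Finset.mem_powersetCard.1 hs
    obtain ⟨u, v, w, h1, h2, h3, rfl⟩ := Finset.card_eq_three.1 hs2
    simp [Finset.insert_subset_iff] at hs1
    exact ⟨u, hs1.1, v, hs1.2.1, w, hs1.2.2, h1, h2, h3, rfl, p3 hs1.1 hs1.2.1 hs1.2.2 h1 h2 h3⟩
  set T2 := (BF.powersetCard 2).image π with hT2
  set T3 := (BF.powersetCard 3).image π with hT3
  have hT2card : T2.card = 231 := by
    rw [hT2, Finset.card_image_of_injOn, Finset.card_powersetCard, hBc]
    · decide
    intro s hs t ht he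
    obtain ⟨u, hu, w, hw, huw, rfl, e⟩ := g2 s hs
    obtain ⟨u', hu', w', hw', huw', rfl, e'⟩ := g2 t ht
    rcases H.S.pair_unique (hB.sub (hmem hu)) (hB.sub (hmem hw)) (hB.sub (hmem hu'))
      (hB.sub (hmem hw')) huw huw' (hB.comm _ (hmem hu) _ (hmem hw))
      (hB.comm _ (hmem hu') _ (hmem hw')) (e.symm.trans (he.trans e')) with ⟨rfl, rfl⟩ | ⟨rfl, rfl⟩
    · rfl
    · exact Finset.pair_comm _ _
  have hT3card : 1540 ≤ 2 * T3.card := by
    have h := Finset.card_le_mul_card_image (f := π) (BF.powersetCard 3) 2 fun t ht => ?_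
    · rwa [Finset.card_powersetCard, hBc] at h
    obtain ⟨s, hs, rfl⟩ := Finset.mem_image.1 ht
    obtain ⟨a, ha, b, hb, c, hc, hab, hac, hbc, rfl, e⟩ := g3 s hs
    have hal := hB.link_mem (hmem ha) (hmem hb) hab.symm
    have hcl := hB.link_mem (hmem ha) (hmem hc) hac.symm
    have hcb := hB.link_mem (hmem hb) (hmem hc) hbc.symm
    obtain ⟨p, q, r, -, -, -, hR, -⟩ := H.partner a b c (hB.sub (hmem ha)) hal hcl hcb
    refine le_trans (Finset.card_le_card (t := ({{a, b, c}, {p, q, r}} : Finset (Finset G))) ?_)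
      Finset.card_le_two
    intro t ht
    obtain ⟨ht1, ht2⟩ := Finset.mem_filter.1 ht
    obtain ⟨x, hx, y, hy, z, hz, hxy, hxz, hyz, rfl, e'⟩ := g3 t ht1
    rw [Finset.mem_insert, Finset.mem_singleton]
    rcases H.S.triple_alternatives (hB.sub (hmem ha)) hal hcl hcb hR (hB.sub (hmem hx))
      (hB.sub (hmem hy)) (hB.sub (hmem hz)) hxy hxz hyz (hB.comm _ (hmem hx) _ (hmem hy))
      (hB.comm _ (hmem hx) _ (hmem hz)) (hB.comm _ (hmem hy) _ (hmem hz))
      (e'.symm.trans (ht2.trans e)) with h | h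
    · exact Or.inl (Finset.ext fun k => by simpa using h k)
    · exact Or.inr (Finset.ext fun k => by simpa using h k)
  have n1 : (1 : G) ∉ BF := fun h => CfsgLib.ThreeTrans.ne_one hset (hB.sub (hmem h)) rfl
  have n2 : ∀ t ∈ T2, t ≠ 1 ∧ t ∉ BF := by
    intro t ht
    obtain ⟨s, hs, rfl⟩ := Finset.mem_image.1 ht
    obtain ⟨u, hu, w, hw, huw, -, e⟩ := g2 s hs
    rw [e]
    refine ⟨fun h => huw ((eq_inv_of_mul_eq_one_left h).trans (inv_eq hset (hB.sub (hmem hw)))), ?_⟩
    exact fun h => ne_mul_two H.S (hB.sub (hmem h)) (hB.sub (hmem hu)) (hB.sub (hmem hw)) huw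
      (hB.comm _ (hmem hu) _ (hmem hw)) rfl
  have n3 : ∀ t ∈ T3, t ≠ 1 ∧ t ∉ BF ∧ t ∉ T2 := by
    intro t ht
    obtain ⟨s, hs, rfl⟩ := Finset.mem_image.1 ht
    obtain ⟨u, hu, v, hv, w, hw, huv, huw, hvw, -, e⟩ := g3 s hs
    have cuv := hB.comm _ (hmem hu) _ (hmem hv)
    have cuw := hB.comm _ (hmem hu) _ (hmem hw)
    have cvw := hB.comm _ (hmem hv) _ (hmem hw)
    rw [e]
    refine ⟨fun h => ?_, fun h => ne_mul_three H.S (hB.sub (hmem h)) (hB.sub (hmem hu))
      (hB.sub (hmem hv)) (hB.sub (hmem hw)) huv huw hvw cuv cuw cvw rfl, fun h => ?_⟩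
    · exact ne_mul_two H.S (hB.sub (hmem hw)) (hB.sub (hmem hu)) (hB.sub (hmem hv)) huv cuv
        (((eq_inv_of_mul_eq_one_left h).trans (inv_eq hset (hB.sub (hmem hw)))).symm)
    · obtain ⟨s', hs', he⟩ := Finset.mem_image.1 h
      obtain ⟨u', hu', w', hw', huw', -, e'⟩ := g2 s' hs'
      exact H.ne_two_three (hB.sub (hmem hu')) (hB.sub (hmem hw')) (hB.sub (hmem hu))
        (hB.sub (hmem hv)) (hB.sub (hmem hw)) huw' huv huw hvw (hB.comm _ (hmem hu') _ (hmem hw'))
        cuv cuw cvw (e'.symm.trans he)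
  refine ⟨insert 1 (BF ∪ T2 ∪ T3), fun t ht => ?_, ?_⟩
  · simp only [Finset.mem_insert, Finset.mem_union] at ht
    rcases ht with rfl | (ht | ht) | ht
    · exact one_mem _
    · exact subset_closure (hmem ht)
    · obtain ⟨s, hs, rfl⟩ := Finset.mem_image.1 ht
      obtain ⟨u, hu, w, hw, -, -, e⟩ := g2 s hs
      rw [e]
      exact mul_mem (subset_closure (hmem hu)) (subset_closure (hmem hw))
    · obtain ⟨s, hs, rfl⟩ := Finset.mem_image.1 ht
      obtain ⟨u, hu, v, hv, w, hw, -, -, -, -, e⟩ := g3 s hs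
      rw [e]
      exact mul_mem (mul_mem (subset_closure (hmem hu)) (subset_closure (hmem hv)))
        (subset_closure (hmem hw))
  · rw [Finset.card_insert_of_notMem, Finset.card_union_of_disjoint, Finset.card_union_of_disjoint,
      hBc, hT2card]
    · omega
    · exact Finset.disjoint_right.2 fun t ht => (n2 t ht).2
    · exact Finset.disjoint_right.2 fun t ht h =>
        (Finset.mem_union.1 h).elim (n3 t ht).2.1 (n3 t ht).2.2
    · simp only [Finset.mem_union, not_or]
      exact ⟨⟨n1, fun h => (n2 1 h).1 rfl⟩, fun h => (n3 1 h).1 rfl⟩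

/-- The members commuting with none of a base are conjugate under it. -/
theorem exists_translate (hB : IsBase D B) (hn : D.ncard = 3510) {x y : G} (hx : x ∈ outside D B)
    (hy : y ∈ outside D B) : ∃ n ∈ closure B, y = n * x * n⁻¹ := by
  classical
  haveI := Fintype.ofFinite G
  obtain ⟨T, hTN, hT⟩ := H.card_products hB
  have hout : ∀ n ∈ closure B, n * x * n⁻¹ ∈ outside D B := by
    intro n hn
    refine ⟨CfsgLib.ThreeTransp.class_conj_mem H.S.cls n hx.1, fun b hb h => hx.2 b hb ?_⟩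
    have hnb : Commute n b := by
      have hle : closure B ≤ centralizer {b} :=
        (closure_le _).2 fun c hc => mem_centralizer_singleton_iff.2 (hB.comm c hc b hb).eq
      exact mem_centralizer_singleton_iff.1 (hle hn)
    rw [← conj_self_of_commute hnb] at h
    exact (commute_conj_iff' n x b).1 h
  have hinj : Set.InjOn (fun n => n * x * n⁻¹) (T : Set G) := by
    intro p hp q hq he
    have hm : q⁻¹ * p ∈ closure B := mul_mem (inv_mem (hTN q hq)) (hTN p hp)
    have h1 := (H.short_commute_iff hB hx hm).1 (by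
      calc q⁻¹ * p * x * (q⁻¹ * p)⁻¹ = q⁻¹ * (p * x * p⁻¹) * q := by group
        _ = q⁻¹ * (q * x * q⁻¹) * q := by rw [show p * x * p⁻¹ = q * x * q⁻¹ from he]
        _ = x := by group)
    exact (inv_mul_eq_one.1 h1).symm
  have hsub : T.image (fun n => n * x * n⁻¹) ⊆ (outside D B).toFinset := fun z hz => by
    obtain ⟨n, hn, rfl⟩ := Finset.mem_image.1 hz
    exact Set.mem_toFinset.2 (hout n (hTN n hn))
  have heq := Finset.eq_of_subset_of_card_le hsub (by
    rw [Finset.card_image_of_injOn hinj, ← Set.ncard_eq_toFinset_card', H.ncard_outside hB hn]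
    exact hT)
  have hy' := Set.mem_toFinset.2 hy
  rw [← heq] at hy'
  obtain ⟨n, hn', rfl⟩ := Finset.mem_image.1 hy'
  exact ⟨n, hTN n hn', rfl⟩

end Data

end CfsgLib.FischerInvol
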